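import Mathlib
import Groth.Agent.S4878

/-!
Separating families of linear maps, stable under localisation (EGA IV 11.9).
-/

set_option autoImplicit false
set_option linter.style.haveILetI false
set_option linter.unusedVariables false
set_option backward.isDefEq.respectTransparency false

universe u

open TensorProduct

namespace Groth.Agent.H06Sep

/-- The family is separating after every localisation at one element. -/
def Sep {ι : Type u} {R M : Type u} [CommRing R] [AddCommGroup M] [Module R M] {N : ι → Type u}
    [∀ i, AddCommGroup (N i)] [∀ i, Module R (N i)] (u : ∀ i, M →ₗ[R] N i) : Prop :=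
  ∀ (a : R) (m : M), (∀ i, ∃ k : ℕ, a ^ k • u i m = 0) → ∃ k : ℕ, a ^ k • m = 0

/-- Separating families stay separating after base change to `S`. -/
def SepBC (R S : Type u) [CommRing R] [CommRing S] [Algebra R S] : Prop :=
  ∀ (ι : Type u) (M : Type u) [AddCommGroup M] [Module R M] (N : ι → Type u)
    [∀ i, AddCommGroup (N i)] [∀ i, Module R (N i)] (u : ∀ i, M →ₗ[R] N i),
      Sep u → Sep fun i => (u i).baseChange S

/-- Injectivity of a separating family after tensoring with a module. -/
def SepTensor (R P : Type u) [CommRing R] [AddCommGroup P] [Module R P] : Prop :=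
  ∀ (ι : Type u) (M : Type u) [AddCommGroup M] [Module R M] (N : ι → Type u)
    [∀ i, AddCommGroup (N i)] [∀ i, Module R (N i)] (u : ∀ i, M →ₗ[R] N i),
      Sep u → ∀ x : M ⊗[R] P, (∀ i, (u i).rTensor P x = 0) → x = 0

section

variable {ι : Type u} {R M : Type u} [CommRing R] [AddCommGroup M] [Module R M] {N : ι → Type u}
    [∀ i, AddCommGroup (N i)] [∀ i, Module R (N i)] {u : ∀ i, M →ₗ[R] N i}

theorem Sep.restrict (h : Sep u) (K : Submodule R M) : Sep fun i => (u i).comp K.subtype :=
  fun a m hm => by
    obtain ⟨k, hk⟩ := h a (m : M) hm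
    exact ⟨k, Subtype.ext hk⟩

theorem Sep.eq_zero (h : Sep u) {m : M} (hm : ∀ i, u i m = 0) : m = 0 := by
  obtain ⟨k, hk⟩ := h 1 m fun i => ⟨0, by simp [hm i]⟩
  simpa using hk

end

/-- Projective modules preserve separation. -/
theorem eq_zero_of_projective {ι : Type u} {R M P : Type u} [CommRing R] [AddCommGroup M] [Module R M]
    [AddCommGroup P] [Module R P] [Module.Projective R P] {N : ι → Type u}
    [∀ i, AddCommGroup (N i)] [∀ i, Module R (N i)] (u : ∀ i, M →ₗ[R] N i)
    (hu : ∀ m : M, (∀ i, u i m = 0) → m = 0) (x : M ⊗[R] P) (hx : ∀ i, (u i).rTensor P x = 0) :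
    x = 0 := by
  have h := S4878.result N u (eq_bot_iff.mpr fun m hm => by
    simp only [Submodule.mem_iInf, LinearMap.mem_ker] at hm
    exact hu m hm) P
  have hx' : x ∈ (⨅ i, LinearMap.ker ((u i).rTensor P)) := by
    simpa only [Submodule.mem_iInf, LinearMap.mem_ker] using hx
  rwa [h, Submodule.mem_bot] at hx'

/-- Separation after base change to `S`. -/
def SepAt {ι : Type u} {R : Type u} [CommRing R] (S : Type u) [CommRing S] [Algebra R S] {M : Type u}
    [AddCommGroup M] [Module R M] {N : ι → Type u} [∀ i, AddCommGroup (N i)] [∀ i, Module R (N i)]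
    (u : ∀ i, M →ₗ[R] N i) : Prop :=
  Sep fun i => (u i).baseChange S

end Groth.Agent.H06Sep
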