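import Mathlib
import Groth.Agent.H06Sep.Basic

/-!
Separation modulo an ideal with projective graded pieces propagates to all powers (EGA IV 11.9.12).
-/

set_option autoImplicit false
set_option linter.style.haveILetI false
set_option backward.isDefEq.respectTransparency false

universe u

open TensorProduct

namespace Groth.Agent.H06Sep

/-- A projective factor respects separation up to powers of an endomorphism. -/
theorem exists_pow_rTensor_eq_zero {ι : Type u} {T M G : Type u} [CommRing T] [AddCommGroup M] [Module T M]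
    [AddCommGroup G] [Module T G] [Module.Projective T G] {N : ι → Type u} [∀ i, AddCommGroup (N i)]
    [∀ i, Module T (N i)] (v : ∀ i, M →ₗ[T] N i) (α : Module.End T M)
    (h : ∀ y : M, (∀ i, ∃ k : ℕ, v i ((α ^ k) y) = 0) → ∃ k : ℕ, (α ^ k) y = 0)
    (x : M ⊗[T] G) (hx : ∀ i, ∃ k : ℕ, ((v i).comp (α ^ k)).rTensor G x = 0) :
    ∃ k : ℕ, (α ^ k).rTensor G x = 0 := by
  classical
  obtain ⟨s, hs⟩ := (Module.projective_def (R := T) (P := G)).mp inferInstance
  let Φ : M ⊗[T] G → (G →₀ M) := fun z => TensorProduct.finsuppScalarRight T T M G (s.lTensor M z)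
  have hsinj : Function.Injective (s.lTensor M) := by
    refine Function.LeftInverse.injective (g := (Finsupp.linearCombination T id).lTensor M) fun z => ?_
    rw [← LinearMap.lTensor_comp_apply,
      show (Finsupp.linearCombination T id).comp s = LinearMap.id from LinearMap.ext hs, LinearMap.lTensor_id]
    rfl
  have hΦ : Function.Injective Φ := (TensorProduct.finsuppScalarRight T T M G).injective.comp hsinj
  have key : ∀ (X : Type u) [AddCommGroup X] [Module T X] (φ : M →ₗ[T] X) (z : M ⊗[T] G) (g : G),
      TensorProduct.finsuppScalarRight T T X G (s.lTensor X (φ.rTensor G z)) g = φ (Φ z g) := by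
    intro X _ _ φ z g
    induction z using TensorProduct.induction_on with
    | zero => simp [Φ]
    | tmul m a => simp [Φ, TensorProduct.finsuppScalarRight_apply_tmul_apply]
    | add p q hp hq => simp only [Φ, map_add, Finsupp.add_apply] at hp hq ⊢; simp [hp, hq]
  have hcoord : ∀ g : G, ∃ k : ℕ, (α ^ k) (Φ x g) = 0 := fun g => h _ fun i => by
    obtain ⟨k, hk⟩ := hx i
    refine ⟨k, ?_⟩
    have := key _ ((v i).comp (α ^ k)) x g
    rw [hk] at this
    simpa using this.symm
  choose k hk using hcoord
  refine ⟨(Φ x).support.sup k, hΦ ?_⟩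
  ext g
  have := key _ (α ^ ((Φ x).support.sup k)) x g
  refine this.trans ?_
  by_cases hg : g ∈ (Φ x).support
  · obtain ⟨d, hd⟩ := Nat.exists_eq_add_of_le (Finset.le_sup (f := k) hg)
    rw [hd, add_comm, pow_add, Module.End.mul_apply, hk, map_zero]
    simp [Φ]
  · rw [Finsupp.notMem_support_iff.mp hg, map_zero]
    simp [Φ]

variable {B T : Type u} [CommRing B] [CommRing T] [Algebra B T]

/-- The multiplication map from an ideal tensor a module. -/
noncomputable def mulMap (P : Ideal B) (X : Type u) [AddCommGroup X] [Module B X] : X ⊗[B] P →ₗ[B] X :=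
  (TensorProduct.rid B X).toLinearMap.comp (P.subtype.lTensor X)

theorem mulMap_tmul (P : Ideal B) {X : Type u} [AddCommGroup X] [Module B X] (x : X) (p : P) :
    mulMap P X (x ⊗ₜ p) = (p : B) • x := by simp [mulMap]

theorem range_mulMap (P : Ideal B) (X : Type u) [AddCommGroup X] [Module B X] :
    LinearMap.range (mulMap P X) = P • ⊤ := by
  refine le_antisymm ?_ (Submodule.smul_le.mpr fun r hr x _ => ⟨x ⊗ₜ ⟨r, hr⟩, mulMap_tmul P x _⟩)
  rintro _ ⟨z, rfl⟩
  induction z using TensorProduct.induction_on with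
  | zero => simp
  | tmul x p => rw [mulMap_tmul]; exact Submodule.smul_mem_smul p.2 Submodule.mem_top
  | add a b ha hb => rw [map_add]; exact Submodule.add_mem _ ha hb

theorem mulMap_natural (P : Ideal B) {X Y : Type u} [AddCommGroup X] [Module B X] [AddCommGroup Y] [Module B Y]
    (φ : X →ₗ[B] Y) (z : X ⊗[B] P) : mulMap P Y (φ.rTensor P z) = φ (mulMap P X z) := by
  induction z using TensorProduct.induction_on with
  | zero => simp
  | tmul x p => simp [mulMap_tmul]
  | add a b ha hb => simp only [map_add, ha, hb]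

set_option maxHeartbeats 1000000 in
/-- Powers of an ideal with projective graded pieces. -/
theorem exists_smul_pow_mem (J : Ideal B) (D : Submonoid B)
    (hproj : ∀ j : ℕ, Module.Projective T (T ⊗[B] ↥(J ^ j)))
    (hker : ∀ (X : Type u) [AddCommGroup X] [Module B X] (x : X), (1 : T) ⊗ₜ[B] x = 0 →
      ∃ s ∈ D, s • x ∈ J • (⊤ : Submodule B X))
    {ι : Type u} {M : Type u} [AddCommGroup M] [Module B M] {N : ι → Type u} [∀ i, AddCommGroup (N i)]
    [∀ i, Module B (N i)] [∀ i, Module.Flat B (N i)] (v : ∀ i, M →ₗ[B] N i) (α : Module.End B M)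
    (h0 : ∀ y : T ⊗[B] M, (∀ i, ∃ k : ℕ, ((v i).comp (α ^ k)).baseChange T y = 0) →
      ∃ k : ℕ, (α ^ k).baseChange T y = 0)
    (m : M) (hm : ∀ i, ∀ᶠ k : ℕ in Filter.atTop, v i ((α ^ k) m) = 0) (j : ℕ) :
    ∃ n : ℕ, ∃ s ∈ D, s • (α ^ n) m ∈ J ^ j • (⊤ : Submodule B M) := by
  induction j with
  | zero => exact ⟨0, 1, one_mem _, by simp [Ideal.one_eq_top]⟩
  | succ j ih =>
    obtain ⟨n, s, hs, hmem⟩ := ih
    rw [← range_mulMap] at hmem
    obtain ⟨w, hw⟩ := hmem
    let P : Ideal B := J ^ j
    have hv : ∀ i, ∃ k : ℕ, ((v i).comp (α ^ k)).rTensor P w = 0 := by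
      intro i
      obtain ⟨K, hK⟩ := Filter.eventually_atTop.mp (hm i)
      refine ⟨K, ?_⟩
      have hinj : Function.Injective (mulMap P (N i)) := (TensorProduct.rid B (N i)).injective.comp
        (Module.Flat.lTensor_preserves_injective_linearMap (M := N i) P.subtype Subtype.val_injective)
      apply hinj
      rw [map_zero, mulMap_natural, LinearMap.comp_apply, hw, map_smul, map_smul, ← Module.End.mul_apply,
        ← pow_add, hK _ (Nat.le_add_right K n), smul_zero]
    haveI := hproj j
    let αT : Module.End T (T ⊗[B] M) := α.baseChange T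
    have hpow : ∀ k : ℕ, (α ^ k).baseChange T = αT ^ k := fun k => by
      induction k with
      | zero => exact LinearMap.baseChange_id
      | succ k ihk =>
        rw [pow_succ, pow_succ, Module.End.mul_eq_comp, Module.End.mul_eq_comp, LinearMap.baseChange_comp, ihk]
    let E := AlgebraTensorModule.distribBaseChange B T M ↥P
    have nat : ∀ {X : Type u} [AddCommGroup X] [Module B X] (φ : M →ₗ[B] X) (z : M ⊗[B] P),
        (φ.baseChange T).rTensor (T ⊗[B] P) (E (1 ⊗ₜ z)) =
          AlgebraTensorModule.distribBaseChange B T X ↥P (1 ⊗ₜ φ.rTensor P z) := by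
      intro X _ _ φ z
      induction z using TensorProduct.induction_on with
      | zero => simp
      | tmul a p => simp [E]
      | add a b ha hb => simp only [tmul_add, map_add, ha, hb]
    obtain ⟨l, hl⟩ := exists_pow_rTensor_eq_zero (G := T ⊗[B] P) (fun i => (v i).baseChange T) αT
      (fun y hy => by
        obtain ⟨k, hk⟩ := h0 y fun i => by
          obtain ⟨k, hk⟩ := hy i
          exact ⟨k, by rw [LinearMap.baseChange_comp, hpow]; exact hk⟩
        exact ⟨k, by rwa [← hpow]⟩)
      (E (1 ⊗ₜ w)) (fun i => by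
        obtain ⟨k, hk⟩ := hv i
        refine ⟨k, ?_⟩
        rw [← hpow, ← LinearMap.baseChange_comp, nat, hk, tmul_zero, map_zero])
    rw [← hpow, nat] at hl
    obtain ⟨t, ht, hmem⟩ := hker _ _ ((AlgebraTensorModule.distribBaseChange B T M ↥P).map_eq_zero_iff.mp hl)
    refine ⟨l + n, t * s, D.mul_mem ht hs, ?_⟩
    have h1 : mulMap P M (t • (α ^ l).rTensor P w) ∈ J • LinearMap.range (mulMap P M) := by
      rw [LinearMap.range_eq_map, ← Submodule.map_smul'']
      exact Submodule.mem_map_of_mem hmem
    rw [range_mulMap, ← Submodule.smul_assoc, Ideal.smul_eq_mul, ← pow_succ'] at h1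
    rw [map_smul, mulMap_natural, hw, map_smul, smul_smul, ← Module.End.mul_apply, ← pow_add] at h1
    exact h1

end Groth.Agent.H06Sep
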