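import Mathlib
import Groth.Agent.H06Sep.Basic

/-!
A flat module which is generically projective on every closed subset of a Noetherian parameter
spectrum preserves separating families (EGA IV 11.9.10).
-/

set_option autoImplicit false
set_option linter.style.haveILetI false
set_option backward.isDefEq.respectTransparency false

universe u

open TensorProduct

namespace Groth.Agent.H06Sep

variable {A : Type u} [CommRing A]

/-- Torsion of the canonical map to the localisation of a quotient. -/
theorem exists_pow_smul_eq_zero (J : Ideal A) (f : A) {X : Type u} [AddCommGroup X] [Module A X]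
    (hX : ∀ a ∈ J, ∀ x : X, a • x = 0) (x : X)
    (hx : (1 : Localization.Away (Ideal.Quotient.mk J f)) ⊗ₜ[A] x = 0) : ∃ k : ℕ, f ^ k • x = 0 := by
  letI : Module (A ⧸ J) X := (show Module.IsTorsionBySet A X J from fun x a => hX a.1 a.2 x).module
  let T := Localization.Away (Ideal.Quotient.mk J f)
  let F : T ⊗[A] X →ₗ[A] T ⊗[A ⧸ J] X := TensorProduct.lift
    (LinearMap.mk₂ A (fun t z => t ⊗ₜ[A ⧸ J] z) (fun a b z => add_tmul a b z)
      (fun c a z => smul_tmul' c a z) (fun a b z => tmul_add a b z) fun c a z => tmul_smul c a z)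
  have h0 : (1 : T) ⊗ₜ[A ⧸ J] x = 0 := (congrArg F hx).trans (map_zero F)
  obtain ⟨⟨_, k, rfl⟩, hk⟩ := (IsLocalizedModule.eq_zero_iff (Submonoid.powers (Ideal.Quotient.mk J f))
    (TensorProduct.mk (A ⧸ J) T X 1)).mp h0
  refine ⟨k, ?_⟩
  change (Ideal.Quotient.mk J f) ^ k • x = 0 at hk
  rwa [← map_pow] at hk

/-- Every element of the tensor product with the localised quotient has a denominator. -/
theorem exists_pow_smul_eq_tmul (J : Ideal A) (f : A) {X : Type u} [AddCommGroup X] [Module A X]
    (y : Localization.Away (Ideal.Quotient.mk J f) ⊗[A] X) :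
    ∃ (k : ℕ) (x : X), f ^ k • y = 1 ⊗ₜ[A] x := by
  induction y using TensorProduct.induction_on with
  | zero => exact ⟨0, 0, by simp⟩
  | tmul t x =>
    obtain ⟨⟨a, ⟨_, k, rfl⟩⟩, hk⟩ := IsLocalization.surj (Submonoid.powers (Ideal.Quotient.mk J f)) t
    obtain ⟨a, rfl⟩ := Ideal.Quotient.mk_surjective a
    refine ⟨k, a • x, ?_⟩
    rw [tmul_smul, smul_tmul', smul_tmul', Algebra.smul_def, Algebra.smul_def, mul_one]
    congr 1
    rw [IsScalarTower.algebraMap_apply A (A ⧸ J) (Localization.Away (Ideal.Quotient.mk J f)) (f ^ k),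
      IsScalarTower.algebraMap_apply A (A ⧸ J) (Localization.Away (Ideal.Quotient.mk J f)) a, mul_comm,
      Ideal.Quotient.algebraMap_eq, map_pow (Ideal.Quotient.mk J)]
    exact hk
  | add y z hy hz =>
    obtain ⟨k, x, hx⟩ := hy
    obtain ⟨l, x', hx'⟩ := hz
    refine ⟨k + l, f ^ l • x + f ^ k • x', ?_⟩
    rw [smul_add, tmul_add, tmul_smul, tmul_smul, ← hx, ← hx', smul_smul, smul_smul, ← pow_add,
      ← pow_add, add_comm l k]

variable {A₀ : Type u} [CommRing A₀] [IsNoetherianRing A₀] [Algebra A₀ A]
  {P : Type u} [AddCommGroup P] [Module A P] [Module.Flat A P]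

set_option maxHeartbeats 1000000 in
/-- The main dévissage. -/
theorem sepTensor_of_generic
    (hgen : ∀ I : Ideal A₀, I.IsPrime → ∃ f : A₀, f ∉ I ∧
      Module.Projective (Localization.Away (Ideal.Quotient.mk (I.map (algebraMap A₀ A)) (algebraMap A₀ A f)))
        (Localization.Away (Ideal.Quotient.mk (I.map (algebraMap A₀ A)) (algebraMap A₀ A f)) ⊗[A] P)) :
    SepTensor A P := by
  intro ι M _ _ N _ _ u hu x hx
  suffices key : ∀ (I : Ideal A₀) (M : Type u) [AddCommGroup M] [Module A M]
      (u : ∀ i, M →ₗ[A] N i), Sep u → (∀ r ∈ I, ∀ m : M, algebraMap A₀ A r • m = 0) →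
      ∀ x : M ⊗[A] P, (∀ i, (u i).rTensor P x = 0) → x = 0 from
    key ⊥ M u hu (fun r hr m => by rw [(Ideal.mem_bot.mp hr), map_zero, zero_smul]) x hx
  intro I
  induction I using (wellFounded_gt (α := Ideal A₀)).induction with
  | _ I IH =>
  intro M _ _ u hu hI x hx
  classical
  have red : ∀ c : A₀, c ∉ I → (algebraMap A₀ A c • LinearMap.id : M →ₗ[A] M).rTensor P x = 0 → x = 0 := by
    intro c hc h0
    let α : M →ₗ[A] M := algebraMap A₀ A c • LinearMap.id
    have hex := Module.Flat.rTensor_exact P (LinearMap.exact_subtype_ker_map α)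
    obtain ⟨z, hz⟩ := (hex x).mp h0
    have hlt : I < I ⊔ Ideal.span {c} := left_lt_sup.mpr fun h => hc (h (Ideal.mem_span_singleton_self c))
    have : z = 0 := IH _ hlt (LinearMap.ker α) _ (hu.restrict _) (fun r hr m => by
        obtain ⟨r₁, h₁, r₂, h₂, rfl⟩ := Submodule.mem_sup.mp hr
        obtain ⟨b, rfl⟩ := Ideal.mem_span_singleton'.mp h₂
        refine Subtype.ext ?_
        have hm : algebraMap A₀ A c • (m : M) = 0 := m.2
        simp [add_smul, mul_smul, hI r₁ h₁, hm]) z fun i => by
      rw [LinearMap.rTensor_comp_apply, hz, hx i]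
    rw [← hz, this, map_zero]
  by_cases htop : I = ⊤
  · have : Subsingleton M := subsingleton_of_forall_eq 0 fun m => by
      simpa using hI 1 (htop ▸ Submodule.mem_top) m
    exact Subsingleton.elim _ _
  by_cases hprime : I.IsPrime
  swap
  · obtain ⟨a, b, hab, ha, hb⟩ : ∃ a b, a * b ∈ I ∧ a ∉ I ∧ b ∉ I := by
      by_contra hne
      push Not at hne
      exact hprime ⟨htop, fun {a b} h => or_iff_not_imp_left.mpr (hne a b h)⟩
    refine red a ha ?_
    let α : M →ₗ[A] M := algebraMap A₀ A a • LinearMap.id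
    have hlt : I < I ⊔ Ideal.span {b} := left_lt_sup.mpr fun h => hb (h (Ideal.mem_span_singleton_self b))
    have : α.rangeRestrict.rTensor P x = 0 := IH _ hlt (LinearMap.range α) _ (hu.restrict _) (fun r hr m => by
        obtain ⟨r₁, h₁, r₂, h₂, rfl⟩ := Submodule.mem_sup.mp hr
        obtain ⟨d, rfl⟩ := Ideal.mem_span_singleton'.mp h₂
        obtain ⟨_, n, rfl⟩ := m
        refine Subtype.ext ?_
        have hn : algebraMap A₀ A b • algebraMap A₀ A a • n = 0 := by
          rw [smul_smul, ← map_mul, mul_comm]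
          exact hI _ hab n
        simp [α, add_smul, mul_smul, hI r₁ h₁, hn]) _ fun i => by
      rw [← LinearMap.rTensor_comp_apply,
        show ((u i).comp (LinearMap.range α).subtype).comp α.rangeRestrict = algebraMap A₀ A a • u i from
          LinearMap.ext fun m => by simp [α],
        LinearMap.rTensor_smul, LinearMap.smul_apply, hx i, smul_zero]
    have h2 : (LinearMap.range α).subtype.rTensor P (α.rangeRestrict.rTensor P x) = 0 := by rw [this, map_zero]
    rwa [← LinearMap.rTensor_comp_apply] at h2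
  obtain ⟨f, hf, hproj⟩ := hgen I hprime
  let J : Ideal A := I.map (algebraMap A₀ A)
  let g : A := algebraMap A₀ A f
  let T := Localization.Away (Ideal.Quotient.mk J g)
  have hJ : ∀ a ∈ J, ∀ m : M, a • m = 0 := by
    intro a ha
    have hle : J ≤ Module.annihilator A M := Ideal.map_le_iff_le_comap.mpr fun r hr =>
      Module.mem_annihilator.mpr (hI r hr)
    exact Module.mem_annihilator.mp (hle ha)
  let u' : ∀ i, M →ₗ[A] LinearMap.range (u i) := fun i => (u i).rangeRestrict
  have hJ' : ∀ i, ∀ a ∈ J, ∀ n : LinearMap.range (u i), a • n = 0 := by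
    rintro i a ha ⟨_, m, rfl⟩
    refine Subtype.ext ?_
    simp [← map_smul, hJ a ha m]
  have hx' : ∀ i, (u' i).rTensor P x = 0 := fun i => by
    apply Module.Flat.rTensor_preserves_injective_linearMap (M := P) _ (LinearMap.range (u i)).injective_subtype
    rw [map_zero, ← LinearMap.rTensor_comp_apply]
    exact hx i
  have hunit : ∀ k : ℕ, IsUnit (algebraMap A T (g ^ k)) := fun k => by
    rw [map_pow, IsScalarTower.algebraMap_apply A (A ⧸ J) T]
    exact (IsLocalization.Away.algebraMap_isUnit (Ideal.Quotient.mk J g)).pow k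
  have hT : ∀ y : T ⊗[A] M, (∀ i, (u' i).baseChange T y = 0) → y = 0 := by
    intro y hy
    obtain ⟨k, m, hk⟩ := exists_pow_smul_eq_tmul J g y
    have hm : ∀ i, ∃ l : ℕ, g ^ l • u i m = 0 := fun i => by
      obtain ⟨l, hl⟩ := exists_pow_smul_eq_zero J g (hJ' i) (u' i m) (by
        rw [← LinearMap.baseChange_tmul, ← hk, LinearMap.map_smul_of_tower, hy i, smul_zero])
      exact ⟨l, congrArg Subtype.val hl⟩
    obtain ⟨l, hl⟩ := hu g m hm
    have h0 : g ^ (l + k) • y = 0 := by
      rw [pow_add, mul_smul, hk, ← tmul_smul, hl, tmul_zero]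
    rw [← algebraMap_smul T] at h0
    exact (hunit _).smul_eq_zero.mp h0
  have h1 : (1 : T) ⊗ₜ[A] x = 0 := by
    apply (AlgebraTensorModule.distribBaseChange A T M P).injective
    rw [map_zero]
    refine eq_zero_of_projective (R := T) (fun i => (u' i).baseChange T) hT _ fun i => ?_
    have nat : ∀ z : M ⊗[A] P, ((u' i).baseChange T).rTensor (T ⊗[A] P)
        (AlgebraTensorModule.distribBaseChange A T M P (1 ⊗ₜ z)) =
          AlgebraTensorModule.distribBaseChange A T _ P (1 ⊗ₜ (u' i).rTensor P z) := by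
      intro z
      induction z using TensorProduct.induction_on with
      | zero => simp
      | tmul m p => simp
      | add z w hz hw => simp only [tmul_add, map_add, hz, hw]
    rw [nat, hx' i, tmul_zero, map_zero]
  obtain ⟨k, hk⟩ := exists_pow_smul_eq_zero J g (X := M ⊗[A] P) (fun a ha z => by
    induction z using TensorProduct.induction_on with
    | zero => rw [smul_zero]
    | tmul m p => rw [smul_tmul', hJ a ha m, zero_tmul]
    | add z w hz hw => rw [smul_add, hz, hw, add_zero]) x h1
  refine red (f ^ k) (fun h => hf (hprime.mem_of_pow_mem k h)) ?_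
  rw [LinearMap.rTensor_smul, LinearMap.smul_apply, LinearMap.rTensor_id, map_pow]
  exact hk

end Groth.Agent.H06Sep
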