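import Mathlib
import Groth.Agent.H06Sep.Generic
import Groth.Agent.H06EGA11.Model
import Groth.Agent.H06EGA11.Colimit
import Groth.Agent.H7Flat.GenericFreeness

/-!
Flat finitely presented algebras, flat algebras over Artinian rings and scalar extensions over a field
preserve separating families.
-/

set_option autoImplicit false
set_option linter.style.haveILetI false
set_option backward.isDefEq.respectTransparency false

universe u

open TensorProduct

namespace Groth.Agent.H06Sep

theorem sepBC_of_sepTensor {R S : Type u} [CommRing R] [CommRing S] [Algebra R S]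
    (h : ∀ b : S, SepTensor R (Localization.Away b)) : SepBC R S := by
  intro ι M _ _ N _ _ u hu b x hx
  let Sb := Localization.Away b
  let φ : S →ₗ[R] Sb := (IsScalarTower.toAlgHom R S Sb).toLinearMap
  have h0 : TensorProduct.comm R Sb M (φ.rTensor M x) = 0 := by
    refine h b ι M N u hu _ fun i => ?_
    obtain ⟨k, hk⟩ := hx i
    have nat : ∀ z : S ⊗[R] M, (u i).rTensor Sb (TensorProduct.comm R Sb M (φ.rTensor M z)) =
        TensorProduct.comm R Sb (N i) (φ.rTensor (N i) ((u i).baseChange S z)) := by
      intro z
      induction z using TensorProduct.induction_on with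
      | zero => simp
      | tmul s m => simp
      | add a c ha hc => simp only [map_add, ha, hc]
    rw [nat]
    have hφ : ∀ z : S ⊗[R] N i, φ.rTensor (N i) (b ^ k • z) = algebraMap S Sb (b ^ k) • φ.rTensor (N i) z := by
      intro z
      induction z using TensorProduct.induction_on with
      | zero => simp
      | tmul s m => simp [φ, smul_tmul', smul_eq_mul]
      | add a c ha hc => simp only [smul_add, map_add, ha, hc]
    have h1 : algebraMap S Sb (b ^ k) • φ.rTensor (N i) ((u i).baseChange S x) = 0 := by
      rw [← hφ, hk, map_zero]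
    rw [map_pow] at h1
    rw [((IsLocalization.Away.algebraMap_isUnit b).pow k).smul_eq_zero.mp h1, map_zero]
  have h1 : φ.rTensor M x = 0 := (TensorProduct.comm R Sb M).map_eq_zero_iff.mp h0
  let e := AlgebraTensorModule.cancelBaseChange R S Sb Sb M
  have hcan : ∀ z : S ⊗[R] M, e ((1 : Sb) ⊗ₜ[S] z) = φ.rTensor M z := by
    intro z
    induction z using TensorProduct.induction_on with
    | zero => simp
    | tmul s m => simp [e, φ, Algebra.smul_def]
    | add a c ha hc => simp only [tmul_add, map_add, ha, hc]
  have h2 : (1 : Sb) ⊗ₜ[S] x = 0 := e.injective (by rw [hcan, h1, map_zero])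
  obtain ⟨⟨_, k, rfl⟩, hk⟩ := (IsLocalizedModule.eq_zero_iff (Submonoid.powers b)
    (TensorProduct.mk S Sb (S ⊗[R] M) 1)).mp h2
  exact ⟨k, hk⟩

section Model

attribute [local instance] Algebra.TensorProduct.rightAlgebra

set_option maxHeartbeats 400000 in
theorem sepTensor_of_model {A M : Type u} [CommRing A] [AddCommGroup M] [Module A M] [Module.Flat A M]
    {R P N : Type u} [CommRing R] [IsNoetherianRing R] [Algebra R A]
    [CommRing P] [Algebra R P] [Algebra.FiniteType R P] [AddCommGroup N] [Module R N] [Module P N]
    [IsScalarTower R P N] [Module.Finite P N] (e : H06EGA11.BC R P N A ≃ₗ[A] M) :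
    SepTensor A M := by
  classical
  let eA : A ⊗[R] N ≃ₗ[A] M :=
    ((H06EGA11.isBaseChange_toBC (R₀ := R) (B₀ := P) (M₀ := N) A).equiv).trans e
  refine sepTensor_of_generic (A₀ := R) fun I hI => ?_
  let R' := R ⧸ I
  haveI : Algebra.FiniteType R' (P ⊗[R] R') :=
    Algebra.FiniteType.equiv inferInstance (Algebra.TensorProduct.commRight R R' P)
  obtain ⟨fb, hfb, -, hfree⟩ := H7Flat.exists_free_baseChange (R := R') (P ⊗[R] R') (H06EGA11.BC R P N R') 1 one_ne_zero
  obtain ⟨f, rfl⟩ := Ideal.Quotient.mk_surjective fb
  refine ⟨f, fun h => hfb (Ideal.Quotient.eq_zero_iff_mem.mpr h), ?_⟩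
  let J : Ideal A := I.map (algebraMap R A)
  let T := Localization.Away (Ideal.Quotient.mk J (algebraMap R A f))
  let Rf := Localization.Away (Ideal.Quotient.mk I f)
  let g : R' →+* T := Ideal.Quotient.lift I (algebraMap R T) fun r hr => by
    rw [IsScalarTower.algebraMap_apply R A T, IsScalarTower.algebraMap_apply A (A ⧸ J) T,
      Ideal.Quotient.algebraMap_eq, Ideal.Quotient.eq_zero_iff_mem.mpr (Ideal.mem_map_of_mem _ hr), map_zero]
  have hgu : IsUnit (g (Ideal.Quotient.mk I f)) := by
    change IsUnit (algebraMap R T f)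
    rw [IsScalarTower.algebraMap_apply R A T, IsScalarTower.algebraMap_apply A (A ⧸ J) T]
    exact IsLocalization.Away.algebraMap_isUnit (Ideal.Quotient.mk J (algebraMap R A f))
  letI : Algebra Rf T := (IsLocalization.Away.lift (S := Rf) (Ideal.Quotient.mk I f) hgu).toAlgebra
  haveI : IsScalarTower R Rf T := IsScalarTower.of_algebraMap_eq fun r => by
    rw [IsScalarTower.algebraMap_apply R R' Rf]
    refine Eq.trans ?_ (IsLocalization.Away.lift_eq (S := Rf) (Ideal.Quotient.mk I f) hgu (Ideal.Quotient.mk I r)).symm
    rfl
  haveI : Module.Free Rf (Rf ⊗[R] N) :=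
    haveI := hfree (Ideal.Quotient.mk I f) dvd_rfl
    Module.Free.of_equiv ((AlgebraTensorModule.congr (LinearEquiv.refl Rf Rf)
      (H06EGA11.isBaseChange_toBC (R₀ := R) (B₀ := P) (M₀ := N) R').equiv.symm).trans
        (AlgebraTensorModule.cancelBaseChange R R' Rf Rf N))
  exact Module.Projective.of_equiv ((AlgebraTensorModule.cancelBaseChange R Rf T T N).trans
    ((AlgebraTensorModule.cancelBaseChange R A T T N).symm.trans
      (AlgebraTensorModule.congr (LinearEquiv.refl T T) eA)))

set_option maxHeartbeats 1000000 in
theorem sepTensor_of_finitePresentation {A B M : Type u} [CommRing A] [CommRing B]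
    [Algebra A B] [Algebra.FinitePresentation A B] [AddCommGroup M] [Module B M] [Module A M]
    [IsScalarTower A B M] [Module.FinitePresentation B M] [Module.Flat A M] : SepTensor A M := by
  classical
  obtain ⟨n, π, hπ, hker⟩ := Algebra.FinitePresentation.out (R := A) (A := B)
  letI : Algebra (MvPolynomial (Fin n) A) B := π.toRingHom.toAlgebra
  letI : Module (MvPolynomial (Fin n) A) M := Module.compHom M π.toRingHom
  haveI : IsScalarTower (MvPolynomial (Fin n) A) B M := IsScalarTower.of_algebraMap_smul fun _ _ => rfl
  haveI : IsScalarTower A (MvPolynomial (Fin n) A) M := IsScalarTower.of_algebraMap_smul fun c m => by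
    change π (algebraMap A _ c) • m = c • m
    rw [AlgHom.commutes, algebraMap_smul]
  haveI : Module.FinitePresentation (MvPolynomial (Fin n) A) B :=
    Module.finitePresentation_of_surjective (Algebra.linearMap (MvPolynomial (Fin n) A) B) hπ hker
  haveI : Module.FinitePresentation (MvPolynomial (Fin n) A) M :=
    Module.FinitePresentation.trans (MvPolynomial (Fin n) A) M B
  set_option backward.isDefEq.respectTransparency true in
  refine (H06EGA11.exists_model (A := A) (n := n) M).elim fun R₀ h => h.elim fun hR₀ h => h.elim fun M₀ h =>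
    h.elim fun i₁ h => h.elim fun i₂ h => h.elim fun i₃ h => h.elim fun i₄ h => h.elim fun i₅ h =>
    h.elim fun σ h => h.elim fun e _ => ?_
  haveI : Algebra.FiniteType ℤ R₀ := R₀.fg_iff_finiteType.mp hR₀
  haveI : IsNoetherianRing R₀ := Algebra.FiniteType.isNoetherianRing ℤ R₀
  exact sepTensor_of_model (A := A) (R := R₀) (P := MvPolynomial (Fin n) R₀) e

end Model

/-- Flat finitely presented algebras preserve separating families. -/
theorem sepBC_of_finitePresentation (R S : Type u) [CommRing R] [CommRing S] [Algebra R S]
    [Module.Flat R S] [Algebra.FinitePresentation R S] : SepBC R S :=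
  sepBC_of_sepTensor fun b => by
    haveI : Algebra.FinitePresentation S (Localization.Away b) := IsLocalization.Away.finitePresentation b
    haveI : Algebra.FinitePresentation R (Localization.Away b) := Algebra.FinitePresentation.trans R S _
    haveI : Module.Flat S (Localization.Away b) := IsLocalization.flat _ (Submonoid.powers b)
    haveI : Module.Flat R (Localization.Away b) := Module.Flat.trans R S _
    exact sepTensor_of_finitePresentation (B := Localization.Away b)

/-- Flat algebras over an Artinian ring preserve separating families. -/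
theorem sepBC_of_isArtinianRing (R S : Type u) [CommRing R] [IsArtinianRing R] [CommRing S] [Algebra R S]
    [Module.Flat R S] : SepBC R S :=
  sepBC_of_sepTensor fun b => by
    haveI : Module.Flat S (Localization.Away b) := IsLocalization.flat _ (Submonoid.powers b)
    haveI : Module.Flat R (Localization.Away b) := Module.Flat.trans R S _
    refine sepTensor_of_generic (A₀ := R) fun I hI => ⟨1, fun h => hI.ne_top ((Ideal.eq_top_iff_one I).mpr h), ?_⟩
    haveI : (I.map (algebraMap R R)).IsRadical := by
      rw [Algebra.algebraMap_self, Ideal.map_id]; exact hI.isRadical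
    haveI : IsReduced (R ⧸ I.map (algebraMap R R)) := Ideal.isRadical_iff_quotient_reduced _ |>.mp ‹_›
    let T := Localization.Away (Ideal.Quotient.mk (I.map (algebraMap R R)) (algebraMap R R 1))
    haveI : IsArtinianRing T := inferInstanceAs (IsArtinianRing (Localization (Submonoid.powers _)))
    haveI : IsReduced T := inferInstanceAs (IsReduced (Localization (Submonoid.powers _)))
    haveI : IsSemisimpleRing T := IsArtinianRing.isSemisimpleRing_of_isReduced T
    exact Module.projective_of_isSemisimpleRing T _

/-- An exhaustion by separated subalgebras, injective on the targets, suffices. -/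
theorem sep_baseChange_of_exhaust {R S : Type u} [CommRing R] [CommRing S] [Algebra R S]
    {ι M : Type u} [AddCommGroup M] [Module R M] {N : ι → Type u} [∀ i, AddCommGroup (N i)]
    [∀ i, Module R (N i)] {u : ∀ i, M →ₗ[R] N i}
    (h : ∀ t : Finset S, ∃ (S₁ : Type u) (_ : CommRing S₁) (_ : Algebra R S₁) (φ : S₁ →ₐ[R] S),
      (∀ z ∈ t, z ∈ φ.range) ∧ Sep (fun i => (u i).baseChange S₁) ∧
        ∀ i, Function.Injective (φ.toLinearMap.rTensor (N i))) :
    Sep fun i => (u i).baseChange S := by
  classical
  intro b x hx
  obtain ⟨F, rfl⟩ := TensorProduct.exists_finset x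
  obtain ⟨S₁, _, _, φ, hmem, hsep, hinj⟩ := h (insert b (F.image Prod.fst))
  obtain ⟨b₁, rfl⟩ := φ.mem_range.mp (hmem b (Finset.mem_insert_self _ _))
  choose c hc using fun i : F => φ.mem_range.mp
    (hmem i.1.1 (Finset.mem_insert_of_mem (Finset.mem_image_of_mem _ i.2)))
  let x₁ : S₁ ⊗[R] M := ∑ i : F, c i ⊗ₜ i.1.2
  have hsmul : ∀ (X : Type u) [AddCommGroup X] [Module R X] (s : S₁) (z : S₁ ⊗[R] X),
      φ.toLinearMap.rTensor X (s • z) = φ s • φ.toLinearMap.rTensor X z := by
    intro X _ _ s z
    induction z using TensorProduct.induction_on with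
    | zero => simp
    | tmul t m => simp [smul_tmul']
    | add p q hp hq => simp only [smul_add, map_add, hp, hq]
  have hx₁ : φ.toLinearMap.rTensor M x₁ = ∑ i ∈ F, i.1 ⊗ₜ[R] i.2 := by
    rw [map_sum, ← Finset.sum_coe_sort F fun i => i.1 ⊗ₜ[R] i.2]
    exact Finset.sum_congr rfl fun i _ => by rw [LinearMap.rTensor_tmul, AlgHom.toLinearMap_apply, hc]
  obtain ⟨n, hn⟩ := hsep b₁ x₁ fun i => by
    obtain ⟨n, hn⟩ := hx i
    refine ⟨n, hinj i ?_⟩
    have nat : ∀ z : S₁ ⊗[R] M, φ.toLinearMap.rTensor (N i) ((u i).baseChange S₁ z) =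
        (u i).baseChange S (φ.toLinearMap.rTensor M z) := by
      intro z
      induction z using TensorProduct.induction_on with
      | zero => simp
      | tmul s m => simp
      | add p q hp hq => simp only [map_add, hp, hq]
    rw [map_zero, hsmul, map_pow, nat, hx₁]
    exact hn
  exact ⟨n, by rw [← hx₁, ← map_pow, ← hsmul, hn, map_zero]⟩

/-- An exhaustion by universally injective separated subalgebras suffices. -/
theorem sepBC_of_exhaust {R S : Type u} [CommRing R] [CommRing S] [Algebra R S]
    (h : ∀ t : Finset S, ∃ (S₁ : Type u) (_ : CommRing S₁) (_ : Algebra R S₁) (φ : S₁ →ₐ[R] S),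
      (∀ z ∈ t, z ∈ φ.range) ∧ SepBC R S₁ ∧
        ∀ (X : Type u) [AddCommGroup X] [Module R X], Function.Injective (φ.toLinearMap.rTensor X)) :
    SepBC R S := by
  intro ι M _ _ N _ _ u hu
  refine sep_baseChange_of_exhaust fun t => ?_
  obtain ⟨S₁, i₁, i₂, φ, hmem, hsep, hinj⟩ := h t
  exact ⟨S₁, i₁, i₂, φ, hmem, hsep ι M N u hu, fun i => hinj (N i)⟩

/-- Scalar extension over a field preserves separating families. -/
theorem sepBC_of_field (k R K : Type u) [Field k] [CommRing R] [Algebra k R] [CommRing K] [Algebra k K] :
    SepBC R (R ⊗[k] K) := by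
  classical
  refine sepBC_of_exhaust fun t => ?_
  choose F hF using fun z : R ⊗[k] K => TensorProduct.exists_finset z
  let K₁ : Subalgebra k K := Algebra.adjoin k ((t.biUnion fun z => (F z).image Prod.snd : Finset K) : Set K)
  haveI : Algebra.FiniteType k K₁ := K₁.fg_iff_finiteType.mp (Subalgebra.fg_adjoin_finset _)
  haveI : Algebra.FinitePresentation k K₁ := Algebra.FinitePresentation.of_finiteType.mp inferInstance
  let φ : R ⊗[k] K₁ →ₐ[R] R ⊗[k] K := Algebra.TensorProduct.map (AlgHom.id R R) K₁.val
  refine ⟨_, inferInstance, inferInstance, φ, fun z hz => ?_,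
    sepBC_of_finitePresentation R (R ⊗[k] K₁), ?_⟩
  · rw [hF z]
    refine Subalgebra.sum_mem _ fun p hp => φ.mem_range.mpr
      ⟨p.1 ⊗ₜ ⟨p.2, Algebra.subset_adjoin (Finset.mem_coe.mpr
        (Finset.mem_biUnion.mpr ⟨z, hz, Finset.mem_image_of_mem _ hp⟩))⟩, ?_⟩
    exact Algebra.TensorProduct.map_tmul _ _ _ _
  · intro X _ _
    letI : Module k X := Module.compHom X (algebraMap k R)
    haveI : IsScalarTower k R X := IsScalarTower.of_algebraMap_smul fun _ _ => rfl
    let e₁ := (TensorProduct.comm R (R ⊗[k] K₁) X).trans (AlgebraTensorModule.cancelBaseChange k R R X K₁)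
    let e₂ := (TensorProduct.comm R (R ⊗[k] K) X).trans (AlgebraTensorModule.cancelBaseChange k R R X K)
    have nat : ∀ z, e₂ (φ.toLinearMap.rTensor X z) = K₁.val.toLinearMap.lTensor X (e₁ z) := by
      intro z
      induction z using TensorProduct.induction_on with
      | zero => simp
      | tmul s m =>
        induction s using TensorProduct.induction_on with
        | zero => simp
        | tmul r c => simp [e₁, e₂, φ]
        | add p q hp hq => simp only [add_tmul, map_add, hp, hq]
      | add p q hp hq => simp only [map_add, hp, hq]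
    intro a c hac
    apply e₁.injective
    apply Module.Flat.lTensor_preserves_injective_linearMap (M := X) K₁.val.toLinearMap Subtype.val_injective
    rw [← nat, ← nat, hac]

end Groth.Agent.H06Sep
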