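import Mathlib
import Groth.Agent.H06Sep.Providers
import Groth.Agent.H06Sep.Adic

/-!
Universal separation from separation on the fibres (EGA IV 11.9.17 and 11.10.10).
-/

set_option autoImplicit false
set_option linter.style.haveILetI false
set_option backward.isDefEq.respectTransparency false

universe u

open TensorProduct

-- make `R ⊗ A'` carry the module structure of its algebra structure
attribute [local instance 2000] Algebra.toModule

namespace Groth.Agent.H06Sep

section

variable {ι : Type u} {R M : Type u} [CommRing R] [AddCommGroup M] [Module R M] {N : ι → Type u}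
    [∀ i, AddCommGroup (N i)] [∀ i, Module R (N i)] {u : ∀ i, M →ₗ[R] N i}

theorem sep_baseChange_trans {S S' : Type u} [CommRing S] [CommRing S'] [Algebra R S] [Algebra R S']
    [Algebra S S'] [IsScalarTower R S S'] (h : Sep fun i => (u i).baseChange S) (hS : SepBC S S') :
    Sep fun i => (u i).baseChange S' := by
  intro b x hx
  let E := AlgebraTensorModule.cancelBaseChange R S S' S' M
  have nat : ∀ i z, ((u i).baseChange S).baseChange S' (E.symm z) =
      (AlgebraTensorModule.cancelBaseChange R S S' S' (N i)).symm ((u i).baseChange S' z) := by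
    intro i z
    induction z using TensorProduct.induction_on with
    | zero => simp
    | tmul s m => simp [E]
    | add p q hp hq => simp only [map_add, hp, hq]
  obtain ⟨k, hk⟩ := hS ι _ _ _ h b (E.symm x) fun i => by
    obtain ⟨k, hk⟩ := hx i
    exact ⟨k, by rw [nat, ← map_smul, hk, map_zero]⟩
  exact ⟨k, E.symm.injective (by rw [map_smul, hk, map_zero])⟩

theorem sep_baseChange_algEquiv {S S' : Type u} [CommRing S] [CommRing S'] [Algebra R S] [Algebra R S']
    (e : S ≃ₐ[R] S') (h : Sep fun i => (u i).baseChange S) : Sep fun i => (u i).baseChange S' :=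
  sep_baseChange_of_exhaust fun _ => ⟨S, inferInstance, inferInstance, e.toAlgHom,
    fun z _ => e.toAlgHom.mem_range.mpr ⟨e.symm z, e.apply_symm_apply z⟩, h,
    fun i => (LinearEquiv.rTensor (N i) e.toLinearEquiv).injective⟩

end

variable {A R : Type u} [CommRing A] [CommRing R] [Algebra A R]

section Ten

variable (A' : Type u) [CommRing A'] [Algebra A A'] (X : Type u) [AddCommGroup X] [Module A X]
  [Module R X] [IsScalarTower A R X]

/-- The base change to `R ⊗ A'` of an `R`-module as a tensor product with `A'`. -/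
noncomputable def ten : (R ⊗[A] A') ⊗[R] X ≃ₗ[A] A' ⊗[A] X :=
  (((TensorProduct.comm R (R ⊗[A] A') X).trans
    (AlgebraTensorModule.cancelBaseChange A R R X A')).restrictScalars A).trans (TensorProduct.comm A X A')

theorem ten_tmul (r : R) (a : A') (x : X) :
    ten A' X ((r ⊗ₜ[A] a) ⊗ₜ[R] x) = a ⊗ₜ[A] (r • x) := by simp [ten]

theorem ten_symm_tmul (a : A') (x : X) :
    (ten (R := R) A' X).symm (a ⊗ₜ[A] x) = ((1 : R) ⊗ₜ[A] a) ⊗ₜ[R] x := by
  rw [LinearEquiv.symm_apply_eq, ten_tmul, one_smul]

theorem ten_smul (c : A') (z : (R ⊗[A] A') ⊗[R] X) :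
    ten A' X (((1 : R) ⊗ₜ[A] c) • z) = c • ten A' X z := by
  induction z using TensorProduct.induction_on with
  | zero => simp
  | tmul s x =>
    induction s using TensorProduct.induction_on with
    | zero => simp
    | tmul r a => simp [TensorProduct.smul_tmul', ten_tmul, smul_eq_mul]
    | add p q hp hq => simp only [add_tmul, smul_add, map_add, hp, hq]
  | add p q hp hq => simp only [smul_add, map_add, hp, hq]

theorem ten_symm_smul (c : A') (y : A' ⊗[A] X) :
    (ten (R := R) A' X).symm (c • y) = ((1 : R) ⊗ₜ[A] c) • (ten (R := R) A' X).symm y := by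
  rw [LinearEquiv.symm_apply_eq, ten_smul, LinearEquiv.apply_symm_apply]

/-- The action of an element of `R ⊗ A'`. -/
noncomputable def act (b : R ⊗[A] A') : Module.End A' (A' ⊗[A] X) where
  toFun y := ten A' X (b • (ten (R := R) A' X).symm y)
  map_add' p q := by
    rw [map_add]
    erw [smul_add, map_add]
  map_smul' c y := by
    rw [RingHom.id_apply, ten_symm_smul, ← mul_smul, mul_comm, mul_smul, ten_smul]

theorem act_pow (b : R ⊗[A] A') (k : ℕ) (z : (R ⊗[A] A') ⊗[R] X) :
    (act A' X b ^ k) (ten A' X z) = ten A' X (b ^ k • z) := by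
  induction k with
  | zero => simp
  | succ k ih =>
    rw [pow_succ', Module.End.mul_apply, ih, pow_succ', mul_smul]
    change ten A' X (b • (ten (R := R) A' X).symm (ten A' X (b ^ k • z))) = _
    rw [LinearEquiv.symm_apply_apply]

variable {A'} {A'' : Type u} [CommRing A''] [Algebra A A''] (ψ : A' →ₐ[A] A'')

theorem ten_map (z : (R ⊗[A] A') ⊗[R] X) :
    ten A'' X ((Algebra.TensorProduct.map (AlgHom.id R R) ψ).toLinearMap.rTensor X z) =
      ψ.toLinearMap.rTensor X (ten A' X z) := by
  induction z using TensorProduct.induction_on with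
  | zero => simp
  | tmul s x =>
    induction s using TensorProduct.induction_on with
    | zero => simp
    | tmul r a => simp [ten_tmul]
    | add p q hp hq => simp only [add_tmul, map_add, hp, hq]
  | add p q hp hq => simp only [map_add, hp, hq]

end Ten

theorem rTensor_smul_map {A' A'' X : Type u} [CommRing A'] [Algebra A A'] [CommRing A''] [Algebra A A'']
    [AddCommGroup X] [Module R X] (φ : R ⊗[A] A' →ₐ[R] R ⊗[A] A'') (s : R ⊗[A] A') (z : (R ⊗[A] A') ⊗[R] X) :
    φ.toLinearMap.rTensor X (s • z) = φ s • φ.toLinearMap.rTensor X z := by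
  induction z using TensorProduct.induction_on with
  | zero => simp
  | tmul t m => simp [TensorProduct.smul_tmul']
  | add p q hp hq => simp only [smul_add, map_add, hp, hq]

variable {M : Type u} [AddCommGroup M] [Module R M] [Module A M] [IsScalarTower A R M]
  {ι : Type u} {N : ι → Type u} [∀ i, AddCommGroup (N i)] [∀ i, Module R (N i)] [∀ i, Module A (N i)]
  [∀ i, IsScalarTower A R (N i)] [∀ i, Module.Flat A (N i)] {u : ∀ i, M →ₗ[R] N i}

/-- Separation over an algebra follows from separation over its finitely generated subalgebras. -/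
theorem sep_of_subalgebras {A' : Type u} [CommRing A'] [Algebra A A']
    (h : ∀ K : Subalgebra A A', K.FG → SepAt (R ⊗[A] K) u) :
    SepAt (R ⊗[A] A') u := by
  classical
  refine sep_baseChange_of_exhaust fun t => ?_
  choose F hF using fun z : R ⊗[A] A' => TensorProduct.exists_finset z
  let K : Subalgebra A A' := Algebra.adjoin A ((t.biUnion fun z => (F z).image Prod.snd : Finset A') : Set A')
  let φ : R ⊗[A] K →ₐ[R] R ⊗[A] A' := Algebra.TensorProduct.map (AlgHom.id R R) K.val
  refine ⟨_, inferInstance, inferInstance, φ, fun z hz => ?_, h K (Subalgebra.fg_adjoin_finset _), fun i => ?_⟩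
  · rw [hF z]
    refine Subalgebra.sum_mem _ fun p hp => φ.mem_range.mpr
      ⟨p.1 ⊗ₜ ⟨p.2, Algebra.subset_adjoin (Finset.mem_coe.mpr
        (Finset.mem_biUnion.mpr ⟨z, hz, Finset.mem_image_of_mem _ hp⟩))⟩, ?_⟩
    exact Algebra.TensorProduct.map_tmul _ _ _ _
  · intro a c hac
    apply (ten K (N i)).injective
    apply Module.Flat.rTensor_preserves_injective_linearMap (M := N i) K.val.toLinearMap Subtype.val_injective
    rw [← ten_map, ← ten_map, hac]

/-- Separation over a field is stable under field extensions. -/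
theorem sep_of_field {κ T : Type u} [Field κ] [CommRing T] [Algebra A κ] [Algebra A T] [Algebra κ T]
    [IsScalarTower A κ T] {u : ∀ i, M →ₗ[R] N i} (h : SepAt (R ⊗[A] κ) u) :
    SepAt (R ⊗[A] T) u := by
  letI := Algebra.TensorProduct.rightAlgebra (R := A) (A := R) (B := κ)
  let Q := (R ⊗[A] κ) ⊗[κ] T
  let inl : R →ₐ[R] Q := Algebra.ofId R Q
  let to' : R ⊗[A] T →ₐ[R] Q := Algebra.TensorProduct.lift (Algebra.ofId R Q)
    ((Algebra.TensorProduct.includeRight : T →ₐ[κ] Q).restrictScalars A) fun _ _ => .all _ _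
  let σ : R ⊗[A] κ →ₐ[R] R ⊗[A] T := Algebra.TensorProduct.map (AlgHom.id R R) (IsScalarTower.toAlgHom A κ T)
  let back : Q →+ R ⊗[A] T := TensorProduct.liftAddHom
    { toFun := fun s => (AddMonoidHom.mulLeft (σ s)).comp
        (Algebra.TensorProduct.includeRight : T →ₐ[A] R ⊗[A] T).toLinearMap.toAddMonoidHom
      map_zero' := by ext; simp
      map_add' := fun p q => by ext; simp [add_mul] }
    fun c s t => by
      change σ (c • s) * (1 ⊗ₜ[A] t) = σ s * (1 ⊗ₜ[A] (c • t))
      rw [Algebra.smul_def, Algebra.smul_def, map_mul, mul_comm (σ _) (σ s), mul_assoc,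
        show σ (algebraMap κ (R ⊗[A] κ) c) = 1 ⊗ₜ[A] algebraMap κ T c from
          (Algebra.TensorProduct.map_tmul _ _ _ _).trans rfl,
        Algebra.TensorProduct.tmul_mul_tmul, one_mul]
  have hto : ∀ r t, to' (r ⊗ₜ[A] t) = (r ⊗ₜ[A] (1 : κ)) ⊗ₜ[κ] t := fun r t => by
    refine (Algebra.TensorProduct.lift_tmul _ _ _ _ _).trans ?_
    change ((r ⊗ₜ[A] (1 : κ)) ⊗ₜ[κ] (1 : T)) * ((1 : R ⊗[A] κ) ⊗ₜ[κ] t) = _
    rw [Algebra.TensorProduct.tmul_mul_tmul, mul_one, one_mul]
  have hback : ∀ z, back (to' z) = z := by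
    intro z
    induction z using TensorProduct.induction_on with
    | zero => simp
    | tmul r t =>
      have : to' (r ⊗ₜ[A] t) = (r ⊗ₜ[A] (1 : κ)) ⊗ₜ[κ] t := hto r t
      rw [this]
      change σ (r ⊗ₜ[A] (1 : κ)) * (1 ⊗ₜ[A] t) = _
      simp [σ]
    | add p q hp hq => simp only [map_add, hp, hq]
  have hsurj : Function.Surjective to' := by
    intro z
    induction z using TensorProduct.induction_on with
    | zero => exact ⟨0, map_zero _⟩
    | tmul s t =>
      induction s using TensorProduct.induction_on with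
      | zero => exact ⟨0, by simp⟩
      | tmul r c =>
        refine ⟨r ⊗ₜ[A] (c • t), ?_⟩
        have h1 : (r ⊗ₜ[A] c : R ⊗[A] κ) = c • (r ⊗ₜ[A] (1 : κ)) := by
          rw [Algebra.smul_def]
          change _ = ((1 : R) ⊗ₜ[A] c) * (r ⊗ₜ[A] (1 : κ))
          simp
        rw [h1, TensorProduct.smul_tmul]
        exact hto r (c • t)
      | add p q hp hq =>
        obtain ⟨a, ha⟩ := hp
        obtain ⟨b, hb⟩ := hq
        exact ⟨a + b, by rw [map_add, ha, hb, add_tmul]⟩
    | add p q hp hq =>
      obtain ⟨a, ha⟩ := hp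
      obtain ⟨b, hb⟩ := hq
      exact ⟨a + b, by rw [map_add, ha, hb]⟩
  exact sep_baseChange_algEquiv (AlgEquiv.ofBijective to' ⟨Function.LeftInverse.injective hback, hsurj⟩).symm
    (sep_baseChange_trans h (sepBC_of_field κ (R ⊗[A] κ) T))

set_option maxHeartbeats 1000000 in
/-- Separation over one test algebra propagates along the powers of an ideal. -/
theorem exists_ten_mem {B T : Type u} [CommRing B] [CommRing T] [Algebra A B] [Algebra A T] [Algebra B T]
    [IsScalarTower A B T] (J : Ideal B) (D : Submonoid B)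
    (hproj : ∀ j : ℕ, Module.Projective T (T ⊗[B] ↥(J ^ j)))
    (hker : ∀ (X : Type u) [AddCommGroup X] [Module B X] (x : X), (1 : T) ⊗ₜ[B] x = 0 →
      ∃ s ∈ D, s • x ∈ J • (⊤ : Submodule B X))
    {u : ∀ i, M →ₗ[R] N i} (hT : SepAt (R ⊗[A] T) u)
    (b : R ⊗[A] B) (x : (R ⊗[A] B) ⊗[R] M) (hx : ∀ i, ∃ k : ℕ, b ^ k • (u i).baseChange (R ⊗[A] B) x = 0)
    (j : ℕ) : ∃ n : ℕ, ∃ s ∈ D, ten B M (((1 : R) ⊗ₜ[A] s * b ^ n) • x) ∈ J ^ j • (⊤ : Submodule B (B ⊗[A] M)) := by
  let σ : R ⊗[A] B →ₐ[R] R ⊗[A] T := Algebra.TensorProduct.map (AlgHom.id R R) (IsScalarTower.toAlgHom A B T)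
  let v : ∀ i, B ⊗[A] M →ₗ[B] B ⊗[A] N i := fun i => ((u i).restrictScalars A).baseChange B
  have vnat : ∀ i z, v i (ten B M z) = ten B (N i) ((u i).baseChange (R ⊗[A] B) z) := by
    intro i z
    induction z using TensorProduct.induction_on with
    | zero => simp
    | tmul s m =>
      induction s using TensorProduct.induction_on with
      | zero => simp
      | tmul r c => simp [v, ten_tmul]
      | add p q hp hq => simp only [add_tmul, map_add, hp, hq]
    | add p q hp hq => simp only [map_add, hp, hq]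
  let EM : T ⊗[B] (B ⊗[A] M) ≃ₗ[A] (R ⊗[A] T) ⊗[R] M :=
    ((AlgebraTensorModule.cancelBaseChange A B T T M).restrictScalars A).trans (ten T M).symm
  let EN : ∀ i, T ⊗[B] (B ⊗[A] N i) ≃ₗ[A] (R ⊗[A] T) ⊗[R] N i := fun i =>
    ((AlgebraTensorModule.cancelBaseChange A B T T (N i)).restrictScalars A).trans (ten T (N i)).symm
  have hEM : ∀ (t : T) (z : (R ⊗[A] B) ⊗[R] M),
      EM (t ⊗ₜ[B] ten B M z) = ((1 : R) ⊗ₜ[A] t) • σ.toLinearMap.rTensor M z := by
    intro t z
    induction z using TensorProduct.induction_on with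
    | zero => simp
    | tmul s m =>
      induction s using TensorProduct.induction_on with
      | zero => simp
      | tmul r c =>
        simp only [EM, ten_tmul, LinearEquiv.trans_apply, LinearEquiv.restrictScalars_apply,
          AlgebraTensorModule.cancelBaseChange_tmul, ten_symm_tmul, LinearMap.rTensor_tmul, AlgHom.toLinearMap_apply,
          σ, Algebra.TensorProduct.map_tmul, AlgHom.coe_id, id_eq, TensorProduct.smul_tmul', smul_eq_mul,
          Algebra.TensorProduct.tmul_mul_tmul, one_mul]
        rw [← TensorProduct.smul_tmul]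
        simp [TensorProduct.smul_tmul', Algebra.smul_def, mul_comm]
      | add p q hp hq => simp only [add_tmul, tmul_add, map_add, smul_add, hp, hq]
    | add p q hp hq => simp only [tmul_add, map_add, smul_add, hp, hq]
  have hact : ∀ (k : ℕ) y, EM ((act B M b ^ k).baseChange T y) = σ b ^ k • EM y := by
    intro k y
    induction y using TensorProduct.induction_on with
    | zero => simp
    | tmul t w =>
      obtain ⟨z, rfl⟩ := (ten (R := R) B M).surjective w
      rw [LinearMap.baseChange_tmul, act_pow, hEM, hEM, rTensor_smul_map, map_pow, smul_comm]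
    | add p q hp hq => simp only [map_add, smul_add, hp, hq]
  have hv : ∀ i y, EN i ((v i).baseChange T y) = (u i).baseChange (R ⊗[A] T) (EM y) := by
    intro i y
    induction y using TensorProduct.induction_on with
    | zero => simp
    | tmul t w =>
      induction w using TensorProduct.induction_on with
      | zero => simp
      | tmul c m => simp [EN, EM, v, ten_symm_tmul]
      | add p q hp hq => simp only [tmul_add, map_add, hp, hq]
    | add p q hp hq => simp only [map_add, hp, hq]
  obtain ⟨n, s, hs, hmem⟩ := exists_smul_pow_mem J D hproj hker v (act B M b) (fun y hy => by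
      obtain ⟨k, hk⟩ := hT (σ b) (EM y) fun i => by
        obtain ⟨k, hk⟩ := hy i
        refine ⟨k, ?_⟩
        rw [LinearMap.baseChange_comp, LinearMap.comp_apply] at hk
        rw [← map_smul, ← hact, ← hv, hk, map_zero]
      exact ⟨k, EM.injective (by rw [hact, hk, map_zero])⟩)
    (ten B M x) (fun i => by
      obtain ⟨k, hk⟩ := hx i
      filter_upwards [Filter.eventually_ge_atTop k] with l hl
      obtain ⟨d, rfl⟩ := Nat.exists_eq_add_of_le hl
      rw [act_pow, vnat, map_smul, add_comm, pow_add, mul_smul, hk, smul_zero, map_zero]) j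
  refine ⟨n, s, hs, ?_⟩
  rwa [mul_smul, ten_smul, ← act_pow]

/-- Separation lifts along a nilpotent ideal with projective graded pieces. -/
theorem sep_of_nilpotent {B : Type u} [CommRing B] [Algebra A B] (J : Ideal B) (hJ : IsNilpotent J)
    (hproj : ∀ j : ℕ, Module.Projective (B ⧸ J) ((B ⧸ J) ⊗[B] ↥(J ^ j)))
    {u : ∀ i, M →ₗ[R] N i} (hT : SepAt (R ⊗[A] (B ⧸ J)) u) :
    SepAt (R ⊗[A] B) u := by
  intro b x hx
  obtain ⟨j, hj⟩ := hJ
  obtain ⟨n, s, hs, hmem⟩ := exists_ten_mem J ⊥ hproj (fun X _ _ z hz => ⟨1, one_mem _, by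
    have := congrArg (TensorProduct.quotTensorEquivQuotSMul X J) hz
    rw [map_zero, show (1 : B ⧸ J) = Ideal.Quotient.mk J 1 from rfl,
      TensorProduct.quotTensorEquivQuotSMul_mk_tmul, one_smul, Submodule.Quotient.mk_eq_zero] at this
    rwa [one_smul]⟩) hT b x hx j
  refine ⟨n, ?_⟩
  rw [Submonoid.mem_bot] at hs
  subst hs
  rw [hj, Submodule.zero_eq_bot, Submodule.bot_smul, Submodule.mem_bot, LinearEquiv.map_eq_zero_iff,
    ← Algebra.TensorProduct.one_def, one_mul] at hmem
  exact hmem

theorem exists_smul_mem_of_residueField {B : Type u} [CommRing B] (p : Ideal B) [p.IsPrime]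
    (X : Type u) [AddCommGroup X] [Module B X] (x : X) (hx : (1 : p.ResidueField) ⊗ₜ[B] x = 0) :
    ∃ s ∈ p.primeCompl, s • x ∈ p • (⊤ : Submodule B X) := by
  let Q := X ⧸ p • (⊤ : Submodule B X)
  letI : Module (B ⧸ p) Q := (show Module.IsTorsionBySet B Q p from fun z a => by
    obtain ⟨w, rfl⟩ := Submodule.mkQ_surjective (p • (⊤ : Submodule B X)) z
    rw [← map_smul, Submodule.mkQ_apply, Submodule.Quotient.mk_eq_zero]
    exact Submodule.smul_mem_smul a.2 Submodule.mem_top).module
  let F : p.ResidueField ⊗[B] X →ₗ[B] p.ResidueField ⊗[B ⧸ p] Q := TensorProduct.lift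
    (LinearMap.mk₂ B (fun t z => t ⊗ₜ[B ⧸ p] (p • (⊤ : Submodule B X)).mkQ z) (fun a b z => add_tmul a b _)
      (fun c a z => TensorProduct.smul_tmul' c a _) (fun a b z => by rw [map_add, tmul_add])
      fun c a z => by rw [map_smul, TensorProduct.tmul_smul])
  have h0 : (1 : p.ResidueField) ⊗ₜ[B ⧸ p] (p • (⊤ : Submodule B X)).mkQ x = 0 := (congrArg F hx).trans (map_zero F)
  obtain ⟨⟨c, hc⟩, hk⟩ := (IsLocalizedModule.eq_zero_iff (nonZeroDivisors (B ⧸ p))
    (TensorProduct.mk (B ⧸ p) p.ResidueField Q 1)).mp h0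
  obtain ⟨s, rfl⟩ := Ideal.Quotient.mk_surjective c
  refine ⟨s, fun hsp => nonZeroDivisors.ne_zero hc (Ideal.Quotient.eq_zero_iff_mem.mpr hsp),
    (Submodule.Quotient.mk_eq_zero _).mp ?_⟩
  exact hk

/-- An element killed at every prime up to all powers is killed by a power (Krull). -/
theorem exists_pow_smul_eq_zero_of_local {S L : Type u} [CommRing S] [IsNoetherianRing S] [AddCommGroup L]
    [Module S L] [Module.Finite S L] (b : S) (x : L)
    (h : ∀ q : Ideal S, q.IsPrime → b ∉ q → ∀ j : ℕ, ∃ c ∉ q, c • x ∈ q ^ j • (⊤ : Submodule S L)) :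
    ∃ n : ℕ, b ^ n • x = 0 := by
  suffices hb : b ∈ ((Submodule.span S {x}).annihilator).radical by
    obtain ⟨n, hn⟩ := hb
    exact ⟨n, (Submodule.mem_annihilator_span_singleton x _).mp hn⟩
  rw [Ideal.radical_eq_sInf, Submodule.mem_sInf]
  intro (q : Ideal S) hq'
  obtain ⟨hle, hq⟩ := hq'
  by_contra hbq
  let Sq := Localization.AtPrime q
  let l := LocalizedModule.mkLinearMap q.primeCompl L
  have key : ∀ j : ℕ, l x ∈ (IsLocalRing.maximalIdeal Sq) ^ j • (⊤ : Submodule Sq (LocalizedModule q.primeCompl L)) := by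
    intro j
    obtain ⟨c, hc, hmem⟩ := h q hq hbq j
    have h1 : ∀ z ∈ q ^ j • (⊤ : Submodule S L),
        l z ∈ (IsLocalRing.maximalIdeal Sq) ^ j • (⊤ : Submodule Sq (LocalizedModule q.primeCompl L)) := by
      intro z hz
      refine Submodule.smul_induction_on hz (fun a ha w _ => ?_) fun a a' ha ha' => ?_
      · rw [map_smul, ← algebraMap_smul Sq a (l w)]
        refine Submodule.smul_mem_smul ?_ Submodule.mem_top
        rw [← Localization.AtPrime.map_eq_maximalIdeal, ← Ideal.map_pow]
        exact Ideal.mem_map_of_mem _ ha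
      · rw [map_add]; exact Submodule.add_mem _ ha ha'
    have h2 := h1 _ hmem
    rw [map_smul, ← algebraMap_smul Sq c (l x)] at h2
    obtain ⟨d, hd⟩ := (IsLocalization.map_units Sq (⟨c, hc⟩ : q.primeCompl)).exists_left_inv
    have h3 := Submodule.smul_mem _ d h2
    rwa [smul_smul, hd, one_smul] at h3
  haveI : Module.Finite Sq (LocalizedModule q.primeCompl L) := Module.Finite.of_isLocalizedModule q.primeCompl l
  have h0 : l x ∈ (⊥ : Submodule Sq (LocalizedModule q.primeCompl L)) := by
    rw [← Ideal.iInf_pow_smul_eq_bot_of_isLocalRing (M := LocalizedModule q.primeCompl L)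
      (IsLocalRing.maximalIdeal Sq) (Ideal.IsPrime.ne_top inferInstance), Submodule.mem_iInf]
    exact key
  obtain ⟨⟨c, hcq⟩, hc⟩ := (IsLocalizedModule.eq_zero_iff q.primeCompl l).mp ((Submodule.mem_bot Sq).mp h0)
  exact hcq (hle ((Submodule.mem_annihilator_span_singleton x c).mpr hc))

set_option maxHeartbeats 1000000 in
/-- Separation on the fibres gives universal separation. -/
theorem sep_univ_of_fibres [IsNoetherianRing R] [Module.Finite R M] {u : ∀ i, M →ₗ[R] N i}
    (hfib : ∀ p : Ideal A, ∀ [p.IsPrime], SepAt (R ⊗[A] p.ResidueField) u)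
    (A' : Type u) [CommRing A'] [Algebra A A'] : SepAt (R ⊗[A] A') u := by
  refine sep_of_subalgebras fun K hK => ?_
  haveI : Algebra.FiniteType A K := K.fg_iff_finiteType.mp hK
  haveI : IsNoetherianRing (R ⊗[A] K) := Algebra.FiniteType.isNoetherianRing R (R ⊗[A] K)
  intro b x hx
  refine exists_pow_smul_eq_zero_of_local b x fun q hq hbq j => ?_
  let inr : K →+* R ⊗[A] K := (Algebra.TensorProduct.includeRight : K →ₐ[A] R ⊗[A] K).toRingHom
  let p : Ideal K := Ideal.comap inr q
  haveI : p.IsPrime := Ideal.IsPrime.comap _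
  let p₀ : Ideal A := p.comap (algebraMap A K)
  haveI : p.LiesOver p₀ := ⟨rfl⟩
  let ν : p₀.ResidueField →ₐ[A] p.ResidueField := Ideal.ResidueField.mapₐ p₀ p (Algebra.ofId A K) rfl
  letI : Algebra p₀.ResidueField p.ResidueField := ν.toRingHom.toAlgebra
  haveI : IsScalarTower A p₀.ResidueField p.ResidueField :=
    IsScalarTower.of_algebraMap_eq fun r => (ν.commutes r).symm
  have hT := sep_of_field (T := p.ResidueField) (hfib p₀)
  obtain ⟨n, s, hs, hmem⟩ := exists_ten_mem (T := p.ResidueField) p p.primeCompl (fun _ => inferInstance)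
    (exists_smul_mem_of_residueField p) hT b x hx j
  refine ⟨(1 : R) ⊗ₜ[A] s * b ^ n, q.primeCompl.mul_mem (show ((1 : R) ⊗ₜ[A] s) ∈ q.primeCompl from hs)
    (q.primeCompl.pow_mem hbq n), ?_⟩
  rw [← (ten (R := R) K M).symm_apply_apply (((1 : R) ⊗ₜ[A] s * b ^ n) • x)]
  refine Submodule.smul_induction_on (p := fun z => (ten (R := R) K M).symm z ∈ q ^ j • (⊤ : Submodule _ _))
    hmem (fun c hc w _ => ?_) fun a c ha hc => ?_
  · rw [ten_symm_smul]
    exact Submodule.smul_mem_smul (Ideal.le_comap_pow inr j hc) Submodule.mem_top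
  · rw [map_add]; exact Submodule.add_mem _ ha hc

end Groth.Agent.H06Sep
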