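import Mathlib
import Groth.Agent.H06Sep.Basic
import Groth.Agent.H8Props.RelFP.PullSections
import Groth.Agent.H29Blow.QCohLoc
import Groth.Agent.H29Blow.QCohExt
import Groth.Agent.H17.PullSect

/-!
Separating families of homomorphisms of quasi-coherent modules, read on affine opens.
-/

set_option autoImplicit false
set_option linter.style.haveILetI false
set_option backward.isDefEq.respectTransparency false

universe u

open CategoryTheory CategoryTheory.Limits AlgebraicGeometry TensorProduct

namespace Groth.Agent.H06Sep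

variable {X X' : Scheme.{u}}

/-- A morphism of modules on the sections over an open. -/
noncomputable def appLin {F G : X.Modules} (φ : F ⟶ G) (U : X.Opens) : Γ(F, U) →ₗ[Γ(X, U)] Γ(G, U) where
  toFun := φ.app U
  map_add' := map_add _
  map_smul' r m := Scheme.Modules.Hom.app_smul φ r m

/-- A section killed by every member of the family is zero. -/
def Separating {ι : Type u} {F : X.Modules} {G : ι → X.Modules} (u : ∀ i, F ⟶ G i) : Prop :=
  ∀ (V : X.Opens) (t : Γ(F, V)), (∀ i, (u i).app V t = 0) → t = 0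

variable {ι : Type u} {F : X.Modules} {G : ι → X.Modules} {u : ∀ i, F ⟶ G i}

theorem res_pow_smul (M : X.Modules) {U : X.Opens} (a : Γ(X, U)) (k : ℕ) (m : Γ(M, U))
    (h : a ^ k • m = 0) : M.presheaf.map (homOfLE (X.basicOpen_le a)).op m = 0 := by
  have h1 := congrArg (M.presheaf.map (homOfLE (X.basicOpen_le a)).op) h
  rw [Scheme.Modules.map_smul, map_zero] at h1
  refine IsUnit.smul_eq_zero ?_ |>.mp h1
  rw [map_pow]
  exact (RingedSpace.isUnit_res_basicOpen X.toRingedSpace a).pow k

theorem Separating.sep (h : Separating u) (hF : Coh.IsQCoh F) {U : X.Opens} (hU : IsAffineOpen U) :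
    Sep fun i => appLin (u i) U := by
  intro a m hm
  have h0 : F.presheaf.map (homOfLE (X.basicOpen_le a)).op m = 0 := by
    refine h _ _ fun i => ?_
    obtain ⟨k, hk⟩ := hm i
    exact (congr($((u i).mapPresheaf.naturality (homOfLE (X.basicOpen_le a)).op) m)).trans
      (res_pow_smul (G i) a k _ hk)
  exact H29Blow.exists_pow_smul_eq_zero F hF hU a m h0

theorem separating_of_cover (hF : Coh.IsQCoh F) (hG : ∀ i, Coh.IsQCoh (G i))
    (h : ∀ x : X, ∃ (Q : X.Opens) (_ : IsAffineOpen Q), x ∈ Q ∧ Sep fun i => appLin (u i) Q) :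
    Separating u := by
  intro V t ht
  refine TopCat.Presheaf.section_ext ⟨F.presheaf, F.isSheaf⟩ V t 0 fun x hx => ?_
  obtain ⟨Q, hQ, hxQ, hsep⟩ := h x
  obtain ⟨b, hbV, hxb⟩ := hQ.exists_basicOpen_le (V := V) ⟨x, hx⟩ hxQ
  suffices h0 : F.presheaf.map (homOfLE hbV).op t = 0 by
    rw [map_zero, ← F.presheaf.germ_res_apply (homOfLE hbV) x hxb t]
    exact (congrArg _ h0).trans (map_zero _)
  set y := F.presheaf.map (homOfLE hbV).op t with hy
  obtain ⟨n, s, hs⟩ := H29Blow.exists_pow_smul_eq_res F hF hQ b y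
  obtain ⟨l, hl⟩ := hsep b s fun i => by
    obtain ⟨k, hk⟩ := H29Blow.exists_pow_smul_eq_zero (G i) (hG i) hQ b (appLin (u i) Q s) (by
      refine (congr($((u i).mapPresheaf.naturality (homOfLE (X.basicOpen_le b)).op) s)).symm.trans ?_
      show (u i).app (X.basicOpen b) (F.presheaf.map (homOfLE (X.basicOpen_le b)).op s) = 0
      rw [hs, Scheme.Modules.Hom.app_smul, hy,
        show (u i).app (X.basicOpen b) (F.presheaf.map (homOfLE hbV).op t) = 0 from
          (congr($((u i).mapPresheaf.naturality (homOfLE hbV).op) t)).trans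
            ((congrArg ((G i).presheaf.map (homOfLE hbV).op) (ht i)).trans (map_zero _)), smul_zero])
    exact ⟨k, hk⟩
  have h1 := res_pow_smul F b l s hl
  rw [hs] at h1
  refine IsUnit.smul_eq_zero ?_ |>.mp h1
  rw [map_pow]
  exact (RingedSpace.isUnit_res_basicOpen X.toRingedSpace b).pow n

/-- Sections of the inverse image of the family. -/
theorem sep_pullback_iff (g : X' ⟶ X) (hF : Coh.IsQCoh F) (hG : ∀ i, Coh.IsQCoh (G i)) {U : X.Opens}
    (hU : IsAffineOpen U) {Q : X'.Opens} (hQ : IsAffineOpen Q) (e : Q ≤ g ⁻¹ᵁ U) :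
    letI := (g.appLE U Q e).hom.toAlgebra
    SepAt Γ(X', Q) (fun i => appLin (u i) U) ↔
      Sep fun i => appLin ((Scheme.Modules.pullback g).map (u i)) Q := by
  letI := (g.appLE U Q e).hom.toAlgebra
  have hbF := H8Props.PullSections.isBaseChange_pullLin g F (W := U) (U := Q) e hF hU hQ
  have hbG := fun i => H8Props.PullSections.isBaseChange_pullLin g (G i) (W := U) (U := Q) e (hG i) hU hQ
  letI := Module.compHom Γ((Scheme.Modules.pullback g).obj F, Q) (g.appLE U Q e).hom
  haveI : IsScalarTower Γ(X, U) Γ(X', Q) Γ((Scheme.Modules.pullback g).obj F, Q) :=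
    .of_algebraMap_smul fun _ _ => rfl
  letI := fun i => Module.compHom Γ((Scheme.Modules.pullback g).obj (G i), Q) (g.appLE U Q e).hom
  haveI : ∀ i, IsScalarTower Γ(X, U) Γ(X', Q) Γ((Scheme.Modules.pullback g).obj (G i), Q) :=
    fun i => .of_algebraMap_smul fun _ _ => rfl
  have nat : ∀ i z, (hbG i).equiv ((appLin (u i) U).baseChange Γ(X', Q) z) =
      appLin ((Scheme.Modules.pullback g).map (u i)) Q (hbF.equiv z) := by
    intro i z
    induction z using TensorProduct.induction_on with
    | zero => simp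
    | tmul s m =>
      rw [LinearMap.baseChange_tmul, IsBaseChange.equiv_tmul, IsBaseChange.equiv_tmul, map_smul]
      refine congrArg (s • ·) ?_
      show ((Scheme.Modules.pullback g).obj (G i)).presheaf.map (homOfLE e).op
          (OmegaSh.pullSect g (G i) U ((u i).app U m)) =
        ((Scheme.Modules.pullback g).map (u i)).app Q
          (((Scheme.Modules.pullback g).obj F).presheaf.map (homOfLE e).op (OmegaSh.pullSect g F U m))
      rw [H17.PullSect.pullSect_natural]
      exact (congr($(((Scheme.Modules.pullback g).map (u i)).mapPresheaf.naturality (homOfLE e).op)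
        (OmegaSh.pullSect g F U m))).symm
    | add p q hp hq => simp only [map_add, hp, hq]
  constructor
  · intro h b x hx
    obtain ⟨k, hk⟩ := h b (hbF.equiv.symm x) fun i => by
      obtain ⟨k, hk⟩ := hx i
      refine ⟨k, (hbG i).equiv.injective ?_⟩
      rw [map_smul, nat, LinearEquiv.apply_symm_apply, hk, map_zero]
    exact ⟨k, hbF.equiv.symm.injective (by rw [map_smul, hk, map_zero])⟩
  · intro h b x hx
    obtain ⟨k, hk⟩ := h b (hbF.equiv x) fun i => by
      obtain ⟨k, hk⟩ := hx i
      exact ⟨k, by rw [← nat, ← map_smul, hk, map_zero]⟩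
    exact ⟨k, hbF.equiv.injective (by rw [map_smul, hk, map_zero])⟩

theorem separating_pullback (h : Separating u) (g : X' ⟶ X) (hF : Coh.IsQCoh F) (hG : ∀ i, Coh.IsQCoh (G i))
    (hloc : ∀ x : X', ∃ (U : X.Opens) (_ : IsAffineOpen U) (Q : X'.Opens) (_ : IsAffineOpen Q)
      (e : Q ≤ g ⁻¹ᵁ U), x ∈ Q ∧ (letI := (g.appLE U Q e).hom.toAlgebra; SepBC Γ(X, U) Γ(X', Q))) :
    Separating fun i => (Scheme.Modules.pullback g).map (u i) := by
  refine separating_of_cover (H29Fitt.isQCoh_pullback g F hF) (fun i => H29Fitt.isQCoh_pullback g _ (hG i))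
    fun x => ?_
  obtain ⟨U, hU, Q, hQ, e, hx, hbc⟩ := hloc x
  letI := (g.appLE U Q e).hom.toAlgebra
  exact ⟨Q, hQ, hx, (sep_pullback_iff g hF hG hU hQ e).mp (hbc ι _ _ _ (h.sep hF hU))⟩

end Groth.Agent.H06Sep
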