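import Mathlib
import Groth.Agent.H06Sep.Fibre
import Groth.Agent.H06Sep.Sheaf
import Groth.Agent.H06EGA11b.PullFlat
import Groth.Agent.H10Coh.FinType2

/-!
Separation on fibres and universal separation for quasi-coherent modules on schemes.
-/

set_option autoImplicit false
set_option linter.style.haveILetI false
set_option backward.isDefEq.respectTransparency false

universe u

open CategoryTheory CategoryTheory.Limits AlgebraicGeometry TensorProduct

namespace Groth.Agent.H06Sep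

theorem sepAt_tensor_congr {A R M : Type u} [CommRing A] [CommRing R] [Algebra A R] [AddCommGroup M]
    [Module R M] {ι : Type u} {N : ι → Type u} [∀ i, AddCommGroup (N i)] [∀ i, Module R (N i)]
    {u : ∀ i, M →ₗ[R] N i} {T T' : Type u} [CommRing T] [Algebra A T] [CommRing T'] [Algebra A T']
    (e : T ≃ₐ[A] T') (h : SepAt (R ⊗[A] T) u) : SepAt (R ⊗[A] T') u :=
  sep_baseChange_algEquiv (Algebra.TensorProduct.congr (AlgEquiv.refl : R ≃ₐ[R] R) e) h

theorem residueField_algEquiv {S : Scheme.{u}} {V : S.Opens} (hV : IsAffineOpen V) (q : PrimeSpectrum Γ(S, V)) :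
    ∃ (e : (⊤ : (Spec (S.residueField (hV.fromSpec q))).Opens) ≤ S.fromSpecResidueField (hV.fromSpec q) ⁻¹ᵁ V),
      letI := ((S.fromSpecResidueField (hV.fromSpec q)).appLE V ⊤ e).hom.toAlgebra
      Nonempty (Γ(Spec (S.residueField (hV.fromSpec q)), ⊤) ≃ₐ[Γ(S, V)] q.asIdeal.ResidueField) := by
  set s := hV.fromSpec q with hs
  have hsV : s ∈ V := by
    rw [← SetLike.mem_coe, ← hV.range_fromSpec]
    exact ⟨q, rfl⟩
  have hle : (⊤ : (Spec (S.residueField s)).Opens) ≤ S.fromSpecResidueField s ⁻¹ᵁ V := fun z _ => by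
    show S.fromSpecResidueField s z ∈ V
    rw [Scheme.fromSpecResidueField_apply]
    exact hsV
  refine ⟨hle, ?_⟩
  letI := ((S.fromSpecResidueField s).appLE V ⊤ hle).hom.toAlgebra
  letI := TopCat.Presheaf.algebra_section_stalk S.presheaf (⟨s, hsV⟩ : V)
  haveI : IsLocalization.AtPrime (S.presheaf.stalk s) q.asIdeal := hV.isLocalization_stalk' q hsV
  have happ : (S.fromSpecResidueField s).appLE V ⊤ hle =
      S.evaluation V s hsV ≫ (Scheme.ΓSpecIso (S.residueField s)).inv := by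
    change (Spec.map (S.residue s) ≫ S.fromSpecStalk s).appLE V ⊤ _ = _
    rw [Scheme.Hom.comp_appLE, Scheme.fromSpecStalk_app hsV]
    simp only [Category.assoc, Scheme.Hom.map_appLE]
    exact (congrArg (S.presheaf.germ V s hsV ≫ ·) ((congrArg ((Scheme.ΓSpecIso (S.presheaf.stalk s)).inv ≫ ·)
      (Scheme.Hom.app_eq_appLE (Spec.map (S.residue s))).symm).trans
        (Scheme.ΓSpecIso_inv_naturality (S.residue s)).symm)).trans (Category.assoc _ _ _).symm
  let e₁ : Localization.AtPrime q.asIdeal ≃ₐ[Γ(S, V)] S.presheaf.stalk s :=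
    IsLocalization.algEquiv q.asIdeal.primeCompl _ _
  let e₂ : q.asIdeal.ResidueField ≃+* IsLocalRing.ResidueField (S.presheaf.stalk s) :=
    IsLocalRing.ResidueField.mapEquiv e₁.toRingEquiv
  let e₃ : IsLocalRing.ResidueField (S.presheaf.stalk s) ≃+* Γ(Spec (S.residueField s), ⊤) :=
    (Scheme.ΓSpecIso (S.residueField s)).symm.commRingCatIsoToRingEquiv
  refine ⟨(AlgEquiv.ofRingEquiv (f := e₂.trans e₃) fun a => ?_).symm⟩
  change e₃ (e₂ (algebraMap Γ(S, V) q.asIdeal.ResidueField a)) = ((S.fromSpecResidueField s).appLE V ⊤ hle).hom a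
  rw [happ]
  refine congrArg e₃ ?_
  exact congrArg (IsLocalRing.residue (S.presheaf.stalk s)) (e₁.commutes a)

variable {X S X' S' : Scheme.{u}} {ι : Type u} {F : X.Modules} {G : ι → X.Modules} {u : ∀ i, F ⟶ G i}

theorem sepAt_tensor_iff {p : X ⟶ S} {f' : X' ⟶ S'} {g : X' ⟶ X} {h : S' ⟶ S}
    (H : IsPullback g f' p h) (hF : Coh.IsQCoh F) (hG : ∀ i, Coh.IsQCoh (G i)) {U : X.Opens}
    (hU : IsAffineOpen U) {V : S.Opens} (hV : IsAffineOpen V) (eU : U ≤ p ⁻¹ᵁ V) {W : S'.Opens}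
    (hW : IsAffineOpen W) (eW : W ≤ h ⁻¹ᵁ V) :
    letI := (h.appLE V W eW).hom.toAlgebra
    letI := (p.appLE V U eU).hom.toAlgebra
    SepAt (Γ(X, U) ⊗[Γ(S, V)] Γ(S', W)) (fun i => appLin (u i) U) ↔
      Sep fun i => appLin ((Scheme.Modules.pullback g).map (u i)) (g ⁻¹ᵁ U ⊓ f' ⁻¹ᵁ W) := by
  set U' := g ⁻¹ᵁ U ⊓ f' ⁻¹ᵁ W
  obtain ⟨hU', hpo⟩ := H06EGA11b.PullFlat.pushout_sections H hU hV eU hW eW
  letI := (h.appLE V W eW).hom.toAlgebra
  letI := (p.appLE V U eU).hom.toAlgebra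
  letI : Algebra Γ(S', W) Γ(X', U') := (f'.appLE W U' inf_le_right).hom.toAlgebra
  letI : Algebra Γ(X, U) Γ(X', U') := (g.appLE U U' inf_le_left).hom.toAlgebra
  letI : Algebra Γ(S, V) Γ(X', U') :=
    ((f'.appLE W U' inf_le_right).hom.comp (h.appLE V W eW).hom).toAlgebra
  haveI : IsScalarTower Γ(S, V) Γ(S', W) Γ(X', U') := IsScalarTower.of_algebraMap_eq fun _ => rfl
  haveI : IsScalarTower Γ(S, V) Γ(X, U) Γ(X', U') := IsScalarTower.of_algebraMap_eq fun x =>
    congrArg (fun φ => φ.hom x) hpo.w.symm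
  haveI : Algebra.IsPushout Γ(S, V) Γ(X, U) Γ(S', W) Γ(X', U') :=
    CommRingCat.isPushout_iff_isPushout.mp hpo
  let e := Algebra.IsPushout.equiv Γ(S, V) Γ(X, U) Γ(S', W) Γ(X', U')
  rw [← sep_pullback_iff g hF hG hU hU' inf_le_left]
  exact ⟨sep_baseChange_algEquiv e, sep_baseChange_algEquiv e.symm⟩

set_option maxHeartbeats 1000000 in
theorem separating_of_fibres [IsLocallyNoetherian X] (p : X ⟶ S) (hF : Coh.IsCoh F)
    (hG : ∀ i, Coh.IsQCoh (G i)) (hflat : ∀ i, FlatMod.IsFlatOver p (G i))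
    (hfib : ∀ s : S, Separating fun i => (Scheme.Modules.pullback (p.fiberι s)).map (u i))
    {f' : X' ⟶ S'} {g : X' ⟶ X} {h : S' ⟶ S} (H : IsPullback g f' p h) :
    Separating fun i => (Scheme.Modules.pullback g).map (u i) := by
  have hFq : Coh.IsQCoh F := hF.1
  refine separating_of_cover (H29Fitt.isQCoh_pullback g F hFq) (fun i => H29Fitt.isQCoh_pullback g _ (hG i))
    fun x => ?_
  obtain ⟨V, hV, hxV, -⟩ := exists_isAffineOpen_mem_and_subset (U := (⊤ : S.Opens))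
    (x := h (f' x)) trivial
  obtain ⟨W, hW, hxW, eW⟩ := exists_isAffineOpen_mem_and_subset (U := h ⁻¹ᵁ V) (x := f' x) hxV
  have hxV' : p (g x) ∈ V := by
    have := congrArg (fun φ : X' ⟶ S => φ x) H.w
    simp only [Scheme.Hom.comp_apply] at this
    rwa [this]
  obtain ⟨U, hU, hxU, eU⟩ := exists_isAffineOpen_mem_and_subset (U := p ⁻¹ᵁ V) (x := g x) hxV'
  obtain ⟨hQ, -⟩ := H06EGA11b.PullFlat.pushout_sections H hU hV eU hW eW
  refine ⟨_, hQ, ⟨hxU, hxW⟩, (sepAt_tensor_iff H hFq hG hU hV eU hW eW).mp ?_⟩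
  letI := (h.appLE V W eW).hom.toAlgebra
  letI := (p.appLE V U eU).hom.toAlgebra
  letI := Module.compHom Γ(F, U) (p.appLE V U eU).hom
  haveI : IsScalarTower Γ(S, V) Γ(X, U) Γ(F, U) := .of_algebraMap_smul fun _ _ => rfl
  letI := fun i => Module.compHom Γ(G i, U) (p.appLE V U eU).hom
  haveI : ∀ i, IsScalarTower Γ(S, V) Γ(X, U) Γ(G i, U) := fun i => .of_algebraMap_smul fun _ _ => rfl
  haveI : ∀ i, Module.Flat Γ(S, V) Γ(G i, U) := fun i =>
    (H8Props.FlatLocus.flat_sections_over_iff p (G i) (hG i) hV hU eU).mpr fun z => hflat i z.1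
  haveI : IsNoetherianRing Γ(X, U) := IsLocallyNoetherian.component_noetherian ⟨U, hU⟩
  haveI : F.IsQuasicoherent := hFq
  haveI : Module.Finite Γ(X, U) Γ(F, U) :=
    H10Coh.finite_sections F hF.2 hU
  refine sep_univ_of_fibres (fun q _ => ?_) Γ(S', W)
  obtain ⟨e, ⟨ε⟩⟩ := residueField_algEquiv hV ⟨q, ‹_›⟩
  letI := ((S.fromSpecResidueField (hV.fromSpec ⟨q, ‹_›⟩)).appLE V ⊤ e).hom.toAlgebra
  refine sepAt_tensor_congr ε ?_
  have H' := IsPullback.of_hasPullback p (S.fromSpecResidueField (hV.fromSpec ⟨q, ‹_›⟩))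
  obtain ⟨hQ', -⟩ := H06EGA11b.PullFlat.pushout_sections H' hU hV eU (isAffineOpen_top _) e
  exact (sepAt_tensor_iff H' hFq hG hU hV eU (isAffineOpen_top _) e).mpr
    ((hfib _).sep (H29Fitt.isQCoh_pullback _ F hFq) hQ')

end Groth.Agent.H06Sep
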