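import Mathlib
import Groth.Agent.H06Sep.Scheme

/-!
Separation after an affine change of an affine base.
-/

set_option autoImplicit false
set_option linter.style.haveILetI false
set_option backward.isDefEq.respectTransparency false

universe u

open CategoryTheory CategoryTheory.Limits AlgebraicGeometry TensorProduct

namespace Groth.Agent.H06Sep

/-- Separation after base change to the ring itself. -/
theorem sep_of_sepAt_self {R M : Type u} [CommRing R] [AddCommGroup M] [Module R M] {ι : Type u}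
    {N : ι → Type u} [∀ i, AddCommGroup (N i)] [∀ i, Module R (N i)] {u : ∀ i, M →ₗ[R] N i}
    (h : SepAt R u) : Sep u := by
  intro a m hm
  obtain ⟨k, hk⟩ := h a ((1 : R) ⊗ₜ m) fun i => by
    obtain ⟨k, hk⟩ := hm i
    exact ⟨k, (TensorProduct.lid R (N i)).injective (by simp [hk])⟩
  exact ⟨k, by simpa using congrArg (TensorProduct.lid R M) hk⟩

variable {X X' : Scheme.{u}} {ι : Type u} {F : X.Modules} {G : ι → X.Modules} {u : ∀ i, F ⟶ G i}

set_option maxHeartbeats 1000000 in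
theorem sepAt_spec_iff {A A' : CommRingCat.{u}} {φ : A ⟶ A'} {p : X ⟶ Spec A} {f' : X' ⟶ Spec A'}
    {g : X' ⟶ X} (H : IsPullback g f' p (Spec.map φ)) (hF : Coh.IsQCoh F) (hG : ∀ i, Coh.IsQCoh (G i))
    {U : X.Opens} (hU : IsAffineOpen U) :
    letI := φ.hom.toAlgebra
    letI := ((Scheme.ΓSpecIso A).inv ≫ p.appLE ⊤ U le_top).hom.toAlgebra
    SepAt (Γ(X, U) ⊗[A] A') (fun i => appLin (u i) U) ↔
      Sep fun i => appLin ((Scheme.Modules.pullback g).map (u i)) (g ⁻¹ᵁ U ⊓ f' ⁻¹ᵁ ⊤) := by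
  set U' := g ⁻¹ᵁ U ⊓ f' ⁻¹ᵁ (⊤ : (Spec A').Opens)
  obtain ⟨hU', hpo⟩ := H06EGA11b.PullFlat.pushout_sections H hU (isAffineOpen_top (Spec A)) le_top
    (isAffineOpen_top (Spec A')) le_top
  have hpo' : IsPushout ((Scheme.ΓSpecIso A).inv ≫ p.appLE ⊤ U le_top) φ
      (g.appLE U U' inf_le_left) ((Scheme.ΓSpecIso A').inv ≫ f'.appLE ⊤ U' inf_le_right) := by
    refine hpo.of_iso (Scheme.ΓSpecIso A) (Iso.refl _) (Scheme.ΓSpecIso A') (Iso.refl _) ?_ ?_ ?_ ?_
    · simp only [Iso.refl_hom, Category.comp_id, Iso.hom_inv_id_assoc]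
    · exact (congrArg (· ≫ (Scheme.ΓSpecIso A').hom) (Scheme.Hom.app_eq_appLE (Spec.map φ)).symm).trans
        (Scheme.ΓSpecIso_naturality φ)
    · simp only [Iso.refl_hom, Category.comp_id, Category.id_comp]
      rfl
    · simp only [Iso.refl_hom, Category.comp_id, Iso.hom_inv_id_assoc]
      rfl
  letI := φ.hom.toAlgebra
  letI := ((Scheme.ΓSpecIso A).inv ≫ p.appLE ⊤ U le_top).hom.toAlgebra
  letI : Algebra A' Γ(X', U') := ((Scheme.ΓSpecIso A').inv ≫ f'.appLE ⊤ U' inf_le_right).hom.toAlgebra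
  letI : Algebra Γ(X, U) Γ(X', U') := (g.appLE U U' inf_le_left).hom.toAlgebra
  letI : Algebra A Γ(X', U') := (φ ≫ (Scheme.ΓSpecIso A').inv ≫ f'.appLE ⊤ U' inf_le_right).hom.toAlgebra
  haveI : IsScalarTower A A' Γ(X', U') := IsScalarTower.of_algebraMap_eq fun _ => rfl
  haveI : IsScalarTower A Γ(X, U) Γ(X', U') := IsScalarTower.of_algebraMap_eq fun x =>
    congrArg (fun ψ => ψ.hom x) hpo'.w.symm
  haveI : Algebra.IsPushout A Γ(X, U) A' Γ(X', U') :=
    CommRingCat.isPushout_iff_isPushout.mp hpo'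
  let e := Algebra.IsPushout.equiv A Γ(X, U) A' Γ(X', U')
  rw [← sep_pullback_iff g hF hG hU hU' inf_le_left]
  exact ⟨sep_baseChange_algEquiv e, sep_baseChange_algEquiv e.symm⟩

set_option maxHeartbeats 1000000 in
theorem separating_of_nilpotent {A : CommRingCat.{u}} (p : X ⟶ Spec A) (J : Ideal A) (hJ : IsNilpotent J)
    (hfree : ∀ k : ℕ, Module.Projective (A ⧸ J) ((A ⧸ J) ⊗[A] ↥(J ^ k))) (hF : Coh.IsQCoh F)
    (hG : ∀ i, Coh.IsQCoh (G i)) (hflat : ∀ i, FlatMod.IsFlatOver p (G i))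
    (h0 : Separating fun i => (Scheme.Modules.pullback
      (pullback.fst p (Spec.map (CommRingCat.ofHom (Ideal.Quotient.mk J))))).map (u i)) :
    Separating u := by
  refine separating_of_cover hF hG fun x => ?_
  obtain ⟨U, hU, hxU, -⟩ := exists_isAffineOpen_mem_and_subset (U := (⊤ : X.Opens)) (x := x) trivial
  refine ⟨U, hU, hxU, sep_of_sepAt_self ?_⟩
  letI := ((Scheme.ΓSpecIso A).inv ≫ p.appLE ⊤ U le_top).hom.toAlgebra
  letI := Module.compHom Γ(F, U) ((Scheme.ΓSpecIso A).inv ≫ p.appLE ⊤ U le_top).hom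
  haveI : IsScalarTower A Γ(X, U) Γ(F, U) := .of_algebraMap_smul fun _ _ => rfl
  letI := fun i => Module.compHom Γ(G i, U) ((Scheme.ΓSpecIso A).inv ≫ p.appLE ⊤ U le_top).hom
  haveI : ∀ i, IsScalarTower A Γ(X, U) Γ(G i, U) := fun i => .of_algebraMap_smul fun _ _ => rfl
  haveI : ∀ i, Module.Flat A Γ(G i, U) := fun i => by
    letI := Module.compHom Γ(G i, U) (p.appLE ⊤ U le_top).hom
    letI : Algebra A Γ(Spec A, ⊤) := (Scheme.ΓSpecIso A).inv.hom.toAlgebra
    haveI : IsScalarTower A Γ(Spec A, ⊤) Γ(G i, U) := .of_algebraMap_smul fun _ _ => rfl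
    haveI : Module.Flat A Γ(Spec A, ⊤) := RingHom.Flat.of_bijective
      (ConcreteCategory.bijective_of_isIso (Scheme.ΓSpecIso A).inv)
    haveI : Module.Flat Γ(Spec A, ⊤) Γ(G i, U) :=
      (H8Props.FlatLocus.flat_sections_over_iff p (G i) (hG i) (isAffineOpen_top _) hU le_top).mpr
        fun z => hflat i z.1
    exact Module.Flat.trans A Γ(Spec A, ⊤) _
  refine sep_baseChange_algEquiv (Algebra.TensorProduct.rid A Γ(X, U) Γ(X, U)) ?_
  refine sep_of_nilpotent J hJ hfree ?_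
  have H := IsPullback.of_hasPullback p (Spec.map (CommRingCat.ofHom (Ideal.Quotient.mk J)))
  obtain ⟨hQ, -⟩ := H06EGA11b.PullFlat.pushout_sections H hU (isAffineOpen_top (Spec A)) le_top
    (isAffineOpen_top _) le_top
  exact (sepAt_spec_iff H hF hG hU).mpr (h0.sep (H29Fitt.isQCoh_pullback _ F hF) hQ)

set_option maxHeartbeats 1000000 in
theorem separating_of_finiteType {A A' : CommRingCat.{u}} {φ : A ⟶ A'} (p : X ⟶ Spec A) (hF : Coh.IsQCoh F)
    (hG : ∀ i, Coh.IsQCoh (G i)) (hflat : ∀ i, FlatMod.IsFlatOver p (G i))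
    (hfg : ∀ (B : CommRingCat.{u}) (a : A ⟶ B) (b : B ⟶ A'), a ≫ b = φ → Function.Injective b.hom →
      a.hom.FiniteType → Separating fun i => (Scheme.Modules.pullback (pullback.fst p (Spec.map a))).map (u i)) :
    Separating fun i => (Scheme.Modules.pullback (pullback.fst p (Spec.map φ))).map (u i) := by
  refine separating_of_cover (H29Fitt.isQCoh_pullback _ F hF) (fun i => H29Fitt.isQCoh_pullback _ _ (hG i))
    fun x => ?_
  obtain ⟨U, hU, hxU, -⟩ := exists_isAffineOpen_mem_and_subset (U := (⊤ : X.Opens))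
    (x := pullback.fst p (Spec.map φ) x) trivial
  have H := IsPullback.of_hasPullback p (Spec.map φ)
  obtain ⟨hQ, -⟩ := H06EGA11b.PullFlat.pushout_sections H hU (isAffineOpen_top (Spec A)) le_top
    (isAffineOpen_top _) le_top
  refine ⟨_, hQ, ⟨hxU, trivial⟩, (sepAt_spec_iff H hF hG hU).mp ?_⟩
  letI := φ.hom.toAlgebra
  letI := ((Scheme.ΓSpecIso A).inv ≫ p.appLE ⊤ U le_top).hom.toAlgebra
  letI := Module.compHom Γ(F, U) ((Scheme.ΓSpecIso A).inv ≫ p.appLE ⊤ U le_top).hom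
  haveI : IsScalarTower A Γ(X, U) Γ(F, U) := .of_algebraMap_smul fun _ _ => rfl
  letI := fun i => Module.compHom Γ(G i, U) ((Scheme.ΓSpecIso A).inv ≫ p.appLE ⊤ U le_top).hom
  haveI : ∀ i, IsScalarTower A Γ(X, U) Γ(G i, U) := fun i => .of_algebraMap_smul fun _ _ => rfl
  haveI : ∀ i, Module.Flat A Γ(G i, U) := fun i => by
    letI := Module.compHom Γ(G i, U) (p.appLE ⊤ U le_top).hom
    letI : Algebra A Γ(Spec A, ⊤) := (Scheme.ΓSpecIso A).inv.hom.toAlgebra
    haveI : IsScalarTower A Γ(Spec A, ⊤) Γ(G i, U) := .of_algebraMap_smul fun _ _ => rfl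
    haveI : Module.Flat A Γ(Spec A, ⊤) := RingHom.Flat.of_bijective
      (ConcreteCategory.bijective_of_isIso (Scheme.ΓSpecIso A).inv)
    haveI : Module.Flat Γ(Spec A, ⊤) Γ(G i, U) :=
      (H8Props.FlatLocus.flat_sections_over_iff p (G i) (hG i) (isAffineOpen_top _) hU le_top).mpr
        fun z => hflat i z.1
    exact Module.Flat.trans A Γ(Spec A, ⊤) _
  refine sep_of_subalgebras fun K hK => ?_
  have h' := hfg (CommRingCat.of K) (CommRingCat.ofHom (algebraMap A K)) (CommRingCat.ofHom K.val.toRingHom)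
    rfl Subtype.val_injective (K.fg_iff_finiteType.mp hK : Algebra.FiniteType A K)
  have H' := IsPullback.of_hasPullback p (Spec.map (CommRingCat.ofHom (algebraMap A K)))
  obtain ⟨hQ', -⟩ := H06EGA11b.PullFlat.pushout_sections H' hU (isAffineOpen_top (Spec A)) le_top
    (isAffineOpen_top _) le_top
  exact (sepAt_spec_iff H' hF hG hU).mpr (h'.sep (H29Fitt.isQCoh_pullback _ F hF) hQ')

end Groth.Agent.H06Sep
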