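import Mathlib
import Groth.Agent.H06Sep.SchemeSpec

/-!
Schematically dominant families of morphisms, read on affine opens.
-/

set_option autoImplicit false
set_option linter.style.haveILetI false
set_option backward.isDefEq.respectTransparency false

universe u

open CategoryTheory CategoryTheory.Limits AlgebraicGeometry TensorProduct

namespace Groth.Agent.H06Sep

/-- A section of the structure sheaf killed by every member of the family is zero. -/
def Dominant {X : Scheme.{u}} {ι : Type u} {Z : ι → Scheme.{u}} (f : ∀ i, Z i ⟶ X) : Prop :=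
  ∀ (V : X.Opens) (t : Γ(X, V)), (∀ i, (f i).app V t = 0) → t = 0

/-- A separating family of algebras, with the base ring as source. -/
def SepAlg {R : Type u} [CommRing R] {J : Type u} {N : J → CommRingCat.{u}} (φ : ∀ j, R →+* N j) : Prop :=
  ∀ (a : R) (m : R), (∀ j, ∃ k : ℕ, φ j (a ^ k * m) = 0) → ∃ k : ℕ, a ^ k * m = 0

variable {X : Scheme.{u}} {ι : Type u} {Z : ι → Scheme.{u}} {f : ∀ i, Z i ⟶ X}

/-- Affine opens of the members covering the preimage of `U`. -/
structure Chart (f : ∀ i, Z i ⟶ X) (U : X.Opens) where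
  J : Type u
  idx : J → ι
  W : ∀ j, (Z (idx j)).Opens
  affine : ∀ j, IsAffineOpen (W j)
  le : ∀ j, W j ≤ f (idx j) ⁻¹ᵁ U
  cover : ∀ i, ∀ z ∈ f i ⁻¹ᵁ U, ∃ j, ∃ h : idx j = i, z ∈ h ▸ W j

/-- The restriction maps of a chart. -/
noncomputable def Chart.map {U : X.Opens} (c : Chart f U) (j : c.J) : Γ(X, U) →+* Γ(Z (c.idx j), c.W j) :=
  ((f (c.idx j)).appLE U (c.W j) (c.le j)).hom

/-- All affine opens over `U`. -/
def Chart.all (f : ∀ i, Z i ⟶ X) (U : X.Opens) : Chart f U where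
  J := Σ i, {W : (Z i).Opens // IsAffineOpen W ∧ W ≤ f i ⁻¹ᵁ U}
  idx j := j.1
  W j := j.2.1
  affine j := j.2.2.1
  le j := j.2.2.2
  cover i z hz := by
    obtain ⟨W, hW, hzW, hle⟩ := exists_isAffineOpen_mem_and_subset (U := f i ⁻¹ᵁ U) (x := z) hz
    exact ⟨⟨i, W, hW, hle⟩, rfl, hzW⟩

theorem eq_zero_of_chart {U : X.Opens} (c : Chart f U) (V : X.Opens) (hVU : V ≤ U) (t : Γ(X, V))
    (h : ∀ j, (f (c.idx j)).appLE V (c.W j ⊓ f (c.idx j) ⁻¹ᵁ V) inf_le_right t = 0) (i : ι) :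
    (f i).app V t = 0 := by
  refine TopCat.Presheaf.section_ext (Z i).sheaf (f i ⁻¹ᵁ V) _ 0 fun z hz => ?_
  obtain ⟨j, rfl, hzj⟩ := c.cover i z (hVU hz)
  rw [map_zero]
  have h1 := congrArg (fun y => (Z (c.idx j)).presheaf.germ _ z
    (show z ∈ c.W j ⊓ f (c.idx j) ⁻¹ᵁ V from ⟨hzj, hz⟩) y) (h j)
  simp only [Scheme.Hom.appLE, CommRingCat.comp_apply, map_zero] at h1
  rw [TopCat.Presheaf.germ_res_apply] at h1
  exact h1

theorem Dominant.sepAlg (h : Dominant f) {U : X.Opens} (hU : IsAffineOpen U) (c : Chart f U) :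
    SepAlg c.map := by
  intro a m hm
  haveI := hU.isLocalization_basicOpen a
  have h0 : algebraMap Γ(X, U) Γ(X, X.basicOpen a) m = 0 := by
    refine h _ _ fun i => eq_zero_of_chart c _ (X.basicOpen_le a) _ (fun j => ?_) i
    obtain ⟨k, hk⟩ := hm j
    let W' := c.W j ⊓ f (c.idx j) ⁻¹ᵁ X.basicOpen a
    let r : Γ(X, X.basicOpen a) →+* Γ(Z (c.idx j), W') :=
      ((f (c.idx j)).appLE (X.basicOpen a) W' inf_le_right).hom
    have hcomp : ∀ y, r (algebraMap Γ(X, U) Γ(X, X.basicOpen a) y) =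
        (Z (c.idx j)).presheaf.map (homOfLE (inf_le_left : W' ≤ c.W j)).op (c.map j y) := fun y => by
      have e1 := Scheme.Hom.map_appLE (f (c.idx j)) (V := W') inf_le_right
        (homOfLE (X.basicOpen_le a)).op
      have e2 := Scheme.Hom.appLE_map (f (c.idx j)) (c.le j) (homOfLE (inf_le_left : W' ≤ c.W j)).op
      exact (congrArg (fun ψ => ψ.hom y) e1).trans (congrArg (fun ψ => ψ.hom y) e2).symm
    have hz : r (algebraMap _ _ (a ^ k * m)) = 0 := by rw [hcomp, hk, map_zero]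
    rw [map_mul, map_mul, map_pow, map_pow] at hz
    exact ((((IsLocalization.Away.algebraMap_isUnit (S := Γ(X, X.basicOpen a)) a).map r).pow k).mul_right_eq_zero).mp hz
  obtain ⟨⟨_, k, rfl⟩, hk⟩ := (IsLocalization.map_eq_zero_iff (Submonoid.powers a) Γ(X, X.basicOpen a) m).mp h0
  exact ⟨k, hk⟩

theorem dominant_of_cover
    (h : ∀ x : X, ∃ (Q : X.Opens) (_ : IsAffineOpen Q), x ∈ Q ∧ ∃ c : Chart f Q, SepAlg c.map) :
    Dominant f := by
  intro V t ht
  refine TopCat.Presheaf.section_ext X.sheaf V t 0 fun x hx => ?_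
  obtain ⟨Q, hQ, hxQ, c, hsep⟩ := h x
  obtain ⟨b, hbV, hxb⟩ := hQ.exists_basicOpen_le (V := V) ⟨x, hx⟩ hxQ
  haveI := hQ.isLocalization_basicOpen b
  suffices h0 : X.presheaf.map (homOfLE hbV).op t = 0 by
    rw [map_zero]
    exact (X.presheaf.germ_res_apply (homOfLE hbV) x hxb t).symm.trans
      ((congrArg (X.presheaf.germ (X.basicOpen b) x hxb) h0).trans (map_zero _))
  set y := X.presheaf.map (homOfLE hbV).op t with hy
  obtain ⟨⟨s, ⟨_, n, rfl⟩⟩, hs⟩ := IsLocalization.surj (Submonoid.powers b) y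
  obtain ⟨l, hl⟩ := hsep b s fun j => by
    have hb' : (Z (c.idx j)).basicOpen (c.map j b) ≤ f (c.idx j) ⁻¹ᵁ X.basicOpen b := by
      rw [Chart.map, Scheme.Hom.appLE, CommRingCat.comp_apply, Scheme.basicOpen_res, Scheme.preimage_basicOpen]
      exact inf_le_right
    haveI := (c.affine j).isLocalization_basicOpen (c.map j b)
    let D := (Z (c.idx j)).basicOpen (c.map j b)
    let r : Γ(X, X.basicOpen b) →+* Γ(Z (c.idx j), D) :=
      ((f (c.idx j)).appLE (X.basicOpen b) D hb').hom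
    have hcomp : ∀ z, r (algebraMap Γ(X, Q) Γ(X, X.basicOpen b) z) =
        algebraMap Γ(Z (c.idx j), c.W j) Γ(Z (c.idx j), D) (c.map j z) := fun z => by
      have e1 := Scheme.Hom.map_appLE (f (c.idx j)) (V := D) hb' (homOfLE (X.basicOpen_le b)).op
      have e2 := Scheme.Hom.appLE_map (f (c.idx j)) (c.le j) (homOfLE ((Z (c.idx j)).basicOpen_le (c.map j b))).op
      exact (congrArg (fun ψ => ψ.hom z) e1).trans (congrArg (fun ψ => ψ.hom z) e2).symm
    have hy0 : r y = 0 := by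
      have e1 := Scheme.Hom.map_appLE (f (c.idx j)) (V := D) hb' (homOfLE hbV).op
      have e3 := congrArg (fun ψ => ψ.hom t) e1
      refine e3.trans ?_
      simp only [Scheme.Hom.appLE, CommRingCat.comp_apply, ht (c.idx j), map_zero]
    have h0 : algebraMap Γ(Z (c.idx j), c.W j) Γ(Z (c.idx j), D) (c.map j s) = 0 := by
      rw [← hcomp, ← hs, map_mul, hy0, zero_mul]
    obtain ⟨⟨_, k, rfl⟩, hk⟩ := (IsLocalization.map_eq_zero_iff (Submonoid.powers (c.map j b))
      Γ(Z (c.idx j), D) _).mp h0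
    exact ⟨k, by rw [map_mul, map_pow]; exact hk⟩
  have h1 := congrArg (algebraMap Γ(X, Q) Γ(X, X.basicOpen b)) hl
  rw [map_zero, map_mul, map_pow, ← hs] at h1
  have hu := IsLocalization.Away.algebraMap_isUnit (S := Γ(X, X.basicOpen b)) b
  have h2 := ((hu.pow l).mul_right_eq_zero).mp h1
  dsimp only at h2
  rw [map_pow] at h2
  exact ((hu.pow n).mul_left_eq_zero).mp h2

/-- The separation of a family of algebras as a family of linear maps. -/
theorem sepAlg_iff {R : Type u} [CommRing R] {J : Type u} {N : J → CommRingCat.{u}} (φ : ∀ j, R →+* N j) :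
    letI := fun j => (φ j).toAlgebra
    SepAlg φ ↔ Sep fun j => Algebra.linearMap R (N j) := by
  letI := fun j => (φ j).toAlgebra
  have key : ∀ j (a m : R) (k : ℕ), a ^ k • Algebra.linearMap R (N j) m = φ j (a ^ k * m) := fun j a m k => by
    rw [Algebra.smul_def, map_mul]; rfl
  simp only [SepAlg, Sep, key, smul_eq_mul]

/-- Transfer along a base change of algebras. -/
theorem sepAlg_of_pushout {R S : Type u} [CommRing R] [CommRing S] [Algebra R S] {J : Type u}
    {N N' : J → CommRingCat.{u}} (φ : ∀ j, R →+* N j) (φ' : ∀ j, S →+* N' j) (ψ : ∀ j, N j →+* N' j)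
    (hw : ∀ j r, φ' j (algebraMap R S r) = ψ j (φ j r))
    (hpo : ∀ j, CategoryTheory.IsPushout (CommRingCat.ofHom (algebraMap R S)) (CommRingCat.ofHom (φ j))
      (CommRingCat.ofHom (φ' j)) (CommRingCat.ofHom (ψ j))) :
    letI := fun j => (φ j).toAlgebra
    SepAlg φ' ↔ SepAt S (fun j => Algebra.linearMap R (N j)) := by
  letI := fun j => (φ j).toAlgebra
  letI := fun j => (φ' j).toAlgebra
  letI := fun j => (ψ j).toAlgebra
  letI := fun j => ((φ' j).comp (algebraMap R S)).toAlgebra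
  haveI : ∀ j, IsScalarTower R S (N' j) := fun j => IsScalarTower.of_algebraMap_eq fun _ => rfl
  haveI : ∀ j, IsScalarTower R (N j) (N' j) := fun j => IsScalarTower.of_algebraMap_eq fun r => hw j r
  haveI : ∀ j, Algebra.IsPushout R S (N j) (N' j) := fun j => CommRingCat.isPushout_iff_isPushout.mp (hpo j)
  have key : ∀ j (s : S), Algebra.IsPushout.equiv R S (N j) (N' j)
      ((Algebra.linearMap R (N j)).baseChange S (s ⊗ₜ[R] (1 : R))) = φ' j s := fun j s => by
    simp [Algebra.IsPushout.equiv_tmul]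
    rfl
  constructor
  · intro h b x hx
    obtain ⟨s, rfl⟩ : ∃ s, s ⊗ₜ[R] (1 : R) = x := ⟨TensorProduct.rid R S x, (TensorProduct.rid R S).injective (by simp)⟩
    obtain ⟨k, hk⟩ := h b s fun j => by
      obtain ⟨k, hk⟩ := hx j
      refine ⟨k, ?_⟩
      rw [← key, ← smul_eq_mul, ← TensorProduct.smul_tmul', map_smul, hk, map_zero]
    exact ⟨k, by rw [TensorProduct.smul_tmul', smul_eq_mul, hk, zero_tmul]⟩
  · intro h b s hs
    obtain ⟨k, hk⟩ := h b (s ⊗ₜ[R] (1 : R)) fun j => by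
      obtain ⟨k, hk⟩ := hs j
      refine ⟨k, (Algebra.IsPushout.equiv R S (N j) (N' j)).injective ?_⟩
      rw [← map_smul, TensorProduct.smul_tmul', smul_eq_mul, key, hk, map_zero]
    refine ⟨k, ?_⟩
    rw [TensorProduct.smul_tmul', smul_eq_mul] at hk
    simpa using congrArg (TensorProduct.rid R S) hk

section BaseChange

variable {X' : Scheme.{u}} {g : X' ⟶ X} {Z' : ι → Scheme.{u}} {f' : ∀ i, Z' i ⟶ X'} {g' : ∀ i, Z' i ⟶ Z i}

/-- The chart of the base change. -/
def Chart.baseChange (H : ∀ i, IsPullback (g' i) (f' i) (f i) g) {U : X.Opens} (hU : IsAffineOpen U)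
    (c : Chart f U) {Q : X'.Opens} (hQ : IsAffineOpen Q) (e : Q ≤ g ⁻¹ᵁ U) : Chart f' Q where
  J := c.J
  idx := c.idx
  W j := g' (c.idx j) ⁻¹ᵁ c.W j ⊓ f' (c.idx j) ⁻¹ᵁ Q
  affine j := (H06EGA11b.PullFlat.pushout_sections (H (c.idx j)) (c.affine j) hU (c.le j) hQ e).1
  le j := inf_le_right
  cover i z hz := by
    have hz' : g' i z ∈ f i ⁻¹ᵁ U := by
      show f i (g' i z) ∈ U
      have := congrArg (fun φ : Z' i ⟶ X => φ z) (H i).w
      simp only [Scheme.Hom.comp_apply] at this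
      rw [this]
      exact e hz
    obtain ⟨j, rfl, hj⟩ := c.cover i _ hz'
    exact ⟨j, rfl, hj, hz⟩

theorem sepAlg_baseChange_iff (H : ∀ i, IsPullback (g' i) (f' i) (f i) g) {U : X.Opens} (hU : IsAffineOpen U)
    (c : Chart f U) {Q : X'.Opens} (hQ : IsAffineOpen Q) (e : Q ≤ g ⁻¹ᵁ U) :
    letI := (g.appLE U Q e).hom.toAlgebra
    letI := fun j => (c.map j).toAlgebra
    SepAlg (c.baseChange H hU hQ e).map ↔ SepAt Γ(X', Q) (fun j => Algebra.linearMap Γ(X, U) Γ(Z (c.idx j), c.W j)) := by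
  letI := (g.appLE U Q e).hom.toAlgebra
  have hpo := fun j => (H06EGA11b.PullFlat.pushout_sections (H (c.idx j)) (c.affine j) hU (c.le j) hQ e).2
  refine sepAlg_of_pushout c.map (c.baseChange H hU hQ e).map
    (fun j => ((g' (c.idx j)).appLE (c.W j) _ inf_le_left).hom)
    (fun j r => (congrArg (fun φ => φ.hom r) (hpo j).w).symm) fun j => (hpo j).flip

theorem dominant_baseChange (h : Dominant f) (H : ∀ i, IsPullback (g' i) (f' i) (f i) g)
    (hloc : ∀ x : X', ∃ (U : X.Opens) (_ : IsAffineOpen U) (Q : X'.Opens) (_ : IsAffineOpen Q)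
      (e : Q ≤ g ⁻¹ᵁ U), x ∈ Q ∧ (letI := (g.appLE U Q e).hom.toAlgebra; SepBC Γ(X, U) Γ(X', Q))) :
    Dominant f' := by
  refine dominant_of_cover fun x => ?_
  obtain ⟨U, hU, Q, hQ, e, hx, hbc⟩ := hloc x
  letI := (g.appLE U Q e).hom.toAlgebra
  letI := fun j => ((Chart.all f U).map j).toAlgebra
  exact ⟨Q, hQ, hx, _, (sepAlg_baseChange_iff H hU (Chart.all f U) hQ e).mpr
    (hbc _ _ _ _ ((sepAlg_iff _).mp (h.sepAlg hU _)))⟩

end BaseChange

end Groth.Agent.H06Sep
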