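import Mathlib
import Groth.Agent.H06Sep.Rings

/-!
Schematic dominance on fibres and universal schematic dominance.
-/

set_option autoImplicit false
set_option linter.style.haveILetI false
set_option backward.isDefEq.respectTransparency false

universe u

open CategoryTheory CategoryTheory.Limits AlgebraicGeometry TensorProduct

namespace Groth.Agent.H06Sep

variable {X S : Scheme.{u}} {ι : Type u} {Z : ι → Scheme.{u}} {f : ∀ i, Z i ⟶ X}
  {X' S' : Scheme.{u}} {g : X' ⟶ X} {Z' : ι → Scheme.{u}} {f' : ∀ i, Z' i ⟶ X'} {g' : ∀ i, Z' i ⟶ Z i}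

theorem sepAlg_tensor_iff {p : X ⟶ S} {q : X' ⟶ S'} {h : S' ⟶ S} (H₀ : IsPullback g q p h)
    (H : ∀ i, IsPullback (g' i) (f' i) (f i) g) {U : X.Opens} (hU : IsAffineOpen U) (c : Chart f U)
    {V : S.Opens} (hV : IsAffineOpen V) (eU : U ≤ p ⁻¹ᵁ V) {W : S'.Opens} (hW : IsAffineOpen W)
    (eW : W ≤ h ⁻¹ᵁ V) (hQ : IsAffineOpen (g ⁻¹ᵁ U ⊓ q ⁻¹ᵁ W)) :
    letI := (h.appLE V W eW).hom.toAlgebra
    letI := (p.appLE V U eU).hom.toAlgebra
    letI := fun j => (c.map j).toAlgebra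
    SepAlg (c.baseChange H hU hQ inf_le_left).map ↔
      SepAt (Γ(X, U) ⊗[Γ(S, V)] Γ(S', W)) (fun j => Algebra.linearMap Γ(X, U) Γ(Z (c.idx j), c.W j)) := by
  set U' := g ⁻¹ᵁ U ⊓ q ⁻¹ᵁ W
  obtain ⟨-, hpo⟩ := H06EGA11b.PullFlat.pushout_sections H₀ hU hV eU hW eW
  letI := (h.appLE V W eW).hom.toAlgebra
  letI := (p.appLE V U eU).hom.toAlgebra
  letI : Algebra Γ(S', W) Γ(X', U') := (q.appLE W U' inf_le_right).hom.toAlgebra
  letI : Algebra Γ(X, U) Γ(X', U') := (g.appLE U U' inf_le_left).hom.toAlgebra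
  letI : Algebra Γ(S, V) Γ(X', U') :=
    ((q.appLE W U' inf_le_right).hom.comp (h.appLE V W eW).hom).toAlgebra
  haveI : IsScalarTower Γ(S, V) Γ(S', W) Γ(X', U') := IsScalarTower.of_algebraMap_eq fun _ => rfl
  haveI : IsScalarTower Γ(S, V) Γ(X, U) Γ(X', U') := IsScalarTower.of_algebraMap_eq fun x =>
    congrArg (fun φ => φ.hom x) hpo.w.symm
  haveI : Algebra.IsPushout Γ(S, V) Γ(X, U) Γ(S', W) Γ(X', U') :=
    CommRingCat.isPushout_iff_isPushout.mp hpo
  let e := Algebra.IsPushout.equiv Γ(S, V) Γ(X, U) Γ(S', W) Γ(X', U')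
  rw [sepAlg_baseChange_iff H hU c hQ inf_le_left]
  letI := fun j => (c.map j).toAlgebra
  exact ⟨sep_baseChange_algEquiv e.symm, sep_baseChange_algEquiv e⟩

/-- The base change of a member along a base change of the target. -/
theorem isPullback_member {p : X ⟶ S} {q : X' ⟶ S'} {h : S' ⟶ S} (H₀ : IsPullback g q p h) {T T' : Scheme.{u}}
    {a : T ⟶ X} {b : T' ⟶ T} {a' : T' ⟶ X'} {r : T' ⟶ S'} (Ho : IsPullback b r (a ≫ p) h)
    (w : b ≫ a = a' ≫ g) (w' : a' ≫ q = r) : IsPullback b a' a g := by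
  subst w'
  exact (IsPullback.of_right Ho.flip w.symm H₀.flip).flip

set_option maxHeartbeats 1000000 in
theorem dominant_of_fibres [IsLocallyNoetherian X] (p : X ⟶ S) [∀ i, Flat (f i ≫ p)]
    (hfib : ∀ s : S, Dominant fun i => MoreMor.fiberMap (f i) p s)
    {q : X' ⟶ S'} {h : S' ⟶ S} (H₀ : IsPullback g q p h) (H : ∀ i, IsPullback (g' i) (f' i) (f i) g) :
    Dominant f' := by
  refine dominant_of_cover fun x => ?_
  obtain ⟨V, hV, hxV, -⟩ := exists_isAffineOpen_mem_and_subset (U := (⊤ : S.Opens))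
    (x := h (q x)) trivial
  obtain ⟨W, hW, hxW, eW⟩ := exists_isAffineOpen_mem_and_subset (U := h ⁻¹ᵁ V) (x := q x) hxV
  have hxV' : p (g x) ∈ V := by
    have := congrArg (fun φ : X' ⟶ S => φ x) H₀.w
    simp only [Scheme.Hom.comp_apply] at this
    rwa [this]
  obtain ⟨U, hU, hxU, eU⟩ := exists_isAffineOpen_mem_and_subset (U := p ⁻¹ᵁ V) (x := g x) hxV'
  obtain ⟨hQ, -⟩ := H06EGA11b.PullFlat.pushout_sections H₀ hU hV eU hW eW
  let c := Chart.all f U
  refine ⟨_, hQ, ⟨hxU, hxW⟩, c.baseChange H hU hQ inf_le_left,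
    (sepAlg_tensor_iff H₀ H hU c hV eU hW eW hQ).mpr ?_⟩
  letI := (h.appLE V W eW).hom.toAlgebra
  letI := (p.appLE V U eU).hom.toAlgebra
  letI := fun j => (c.map j).toAlgebra
  letI := fun j => ((c.map j).comp (p.appLE V U eU).hom).toAlgebra
  haveI : ∀ j, IsScalarTower Γ(S, V) Γ(X, U) Γ(Z (c.idx j), c.W j) := fun j => .of_algebraMap_eq fun _ => rfl
  haveI : ∀ j, Module.Flat Γ(S, V) Γ(Z (c.idx j), c.W j) := fun j => by
    have hle : c.W j ≤ (f (c.idx j) ≫ p) ⁻¹ᵁ V := (c.le j).trans ((f (c.idx j)).preimage_mono eU)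
    have hflat : ((f (c.idx j) ≫ p).appLE V (c.W j) hle).hom.Flat :=
      HasRingHomProperty.appLE @Flat (f (c.idx j) ≫ p) inferInstance ⟨V, hV⟩ ⟨c.W j, c.affine j⟩ hle
    rw [← Scheme.Hom.appLE_comp_appLE (f (c.idx j)) p V U (c.W j) eU (c.le j)] at hflat
    exact hflat
  haveI : IsNoetherianRing Γ(X, U) := IsLocallyNoetherian.component_noetherian ⟨U, hU⟩
  refine sep_univ_of_fibres (fun r _ => ?_) Γ(S', W)
  obtain ⟨e, ⟨ε⟩⟩ := residueField_algEquiv hV ⟨r, ‹_›⟩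
  set s := hV.fromSpec ⟨r, ‹_›⟩
  letI := ((S.fromSpecResidueField s).appLE V ⊤ e).hom.toAlgebra
  refine sepAt_tensor_congr ε ?_
  have H₁ := IsPullback.of_hasPullback p (S.fromSpecResidueField s)
  have H' : ∀ i, IsPullback ((f i ≫ p).fiberι s) (MoreMor.fiberMap (f i) p s) (f i) (p.fiberι s) := fun i =>
    isPullback_member H₁ (IsPullback.of_hasPullback (f i ≫ p) (S.fromSpecResidueField s))
      (pullback.lift_fst _ _ _).symm (pullback.lift_snd _ _ _)
  obtain ⟨hQ', -⟩ := H06EGA11b.PullFlat.pushout_sections H₁ hU hV eU (isAffineOpen_top _) e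
  exact (sepAlg_tensor_iff H₁ H' hU c hV eU (isAffineOpen_top _) e hQ').mp ((hfib s).sepAlg hQ' _)

theorem dominant_field {k : Type u} [Field k] (p : X ⟶ Spec (CommRingCat.of k)) {q : X' ⟶ S'}
    {h : S' ⟶ Spec (CommRingCat.of k)} (H₀ : IsPullback g q p h)
    (H : ∀ i, IsPullback (g' i) (f' i) (f i) g) (hdom : Dominant f) : Dominant f' := by
  refine dominant_of_cover fun x => ?_
  obtain ⟨U, hU, hxU, -⟩ := exists_isAffineOpen_mem_and_subset (U := (⊤ : X.Opens)) (x := g x) trivial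
  obtain ⟨W, hW, hxW, -⟩ := exists_isAffineOpen_mem_and_subset (U := (⊤ : S'.Opens)) (x := q x) trivial
  have hV := isAffineOpen_top (Spec (CommRingCat.of k))
  obtain ⟨hQ, -⟩ := H06EGA11b.PullFlat.pushout_sections H₀ hU hV le_top hW le_top
  let c := Chart.all f U
  refine ⟨_, hQ, ⟨hxU, hxW⟩, c.baseChange H hU hQ inf_le_left,
    (sepAlg_tensor_iff H₀ H hU c hV le_top hW le_top hQ).mpr ?_⟩
  letI : Field Γ(Spec (CommRingCat.of k), ⊤) :=
    ((Scheme.ΓSpecIso (CommRingCat.of k)).commRingCatIsoToRingEquiv.toMulEquiv.isField (Field.toIsField k)).toField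
  letI := (h.appLE ⊤ W le_top).hom.toAlgebra
  letI := (p.appLE ⊤ U le_top).hom.toAlgebra
  letI := fun j => (c.map j).toAlgebra
  exact sepBC_of_field _ _ _ _ _ _ _ ((sepAlg_iff _).mp (hdom.sepAlg hU c))

end Groth.Agent.H06Sep
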