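import Mathlib
import Groth.Agent.H06Sep.RingsFibre
import Groth.Agent.H29Blow.Basic

/-!
The reduced closure of the images of geometrically reduced schemes commutes with field extensions
(EGA IV 11.10.7).
-/

set_option autoImplicit false
set_option linter.style.haveILetI false
set_option backward.isDefEq.respectTransparency false

universe u

open CategoryTheory CategoryTheory.Limits AlgebraicGeometry TensorProduct

namespace Groth.Agent.H06Sep

variable {X : Scheme.{u}} {ι : Type u} {Z : ι → Scheme.{u}} {f : ∀ i, Z i ⟶ X}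

theorem mem_vanishingIdeal_iff [∀ i, IsReduced (Z i)] {U : X.affineOpens} (c : Chart f U.1) (r : Γ(X, U.1)) :
    r ∈ (Scheme.IdealSheafData.vanishingIdeal (TopologicalSpace.Closeds.closure (⋃ i, Set.range (f i)))).ideal U ↔
      ∀ j, c.map j r = 0 := by
  have h1 : r ∈ (Scheme.IdealSheafData.vanishingIdeal (TopologicalSpace.Closeds.closure (⋃ i, Set.range (f i)))).ideal U ↔
      Disjoint (⋃ i, Set.range (f i)) (X.basicOpen r : Set X) := by
    rw [Scheme.IdealSheafData.vanishingIdeal_ideal, PrimeSpectrum.mem_vanishingIdeal]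
    constructor
    · intro h
      refine Set.disjoint_left.mpr fun y hy hyr => ?_
      obtain ⟨p, rfl⟩ : y ∈ Set.range U.2.fromSpec := by
        rw [U.2.range_fromSpec]
        exact X.basicOpen_le r hyr
      have hp : p ∈ U.2.fromSpec ⁻¹ᵁ X.basicOpen r := hyr
      rw [U.2.fromSpec_preimage_basicOpen] at hp
      exact hp (h p (subset_closure hy))
    · intro h p hp
      by_contra hr
      have hpr : U.2.fromSpec p ∈ X.basicOpen r := by
        have : p ∈ U.2.fromSpec ⁻¹ᵁ X.basicOpen r := by rw [U.2.fromSpec_preimage_basicOpen]; exact hr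
        exact this
      obtain ⟨y, hyr, hy⟩ := mem_closure_iff.mp hp _ (X.basicOpen r).2 hpr
      exact Set.disjoint_left.mp h hy hyr
  rw [h1]
  have h2 : ∀ j, (Z (c.idx j)).basicOpen (c.map j r) = c.W j ⊓ f (c.idx j) ⁻¹ᵁ X.basicOpen r :=
    fun j => Scheme.basicOpen_appLE (f (c.idx j)) (c.W j) U.1 (c.le j) r
  constructor
  · intro h j
    refine (basicOpen_eq_bot_iff _).mp (eq_bot_iff.mpr fun z hz => ?_)
    rw [h2] at hz
    exact (Set.disjoint_left.mp h (Set.mem_iUnion.mpr ⟨c.idx j, z, rfl⟩) hz.2).elim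
  · intro h
    refine Set.disjoint_left.mpr fun y hy hyr => ?_
    obtain ⟨i, z, rfl⟩ := Set.mem_iUnion.mp hy
    obtain ⟨j, rfl, hj⟩ := c.cover i z (X.basicOpen_le r hyr)
    have hz : z ∈ (Z (c.idx j)).basicOpen (c.map j r) := by rw [h2]; exact ⟨hj, hyr⟩
    rw [h j, Scheme.basicOpen_zero] at hz
    exact hz

/-- The quotient by the kernel of a family of maps to reduced rings is separated. -/
theorem sep_liftQ {R : Type u} [CommRing R] {J : Type u} {N : J → CommRingCat.{u}} [∀ j, _root_.IsReduced (N j)]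
    (φ : ∀ j, R →+* N j) (I : Ideal R) (hI : ∀ r, r ∈ I ↔ ∀ j, φ j r = 0) :
    letI := fun j => (φ j).toAlgebra
    Sep fun j => Submodule.liftQ I (Algebra.linearMap R (N j)) fun r hr => (hI r).mp hr j := by
  letI := fun j => (φ j).toAlgebra
  intro a m hm
  obtain ⟨m, rfl⟩ := Submodule.mkQ_surjective I m
  refine ⟨1, ?_⟩
  rw [pow_one, ← map_smul, Submodule.mkQ_apply, Submodule.Quotient.mk_eq_zero, hI]
  intro j
  obtain ⟨k, hk⟩ := hm j
  rw [Submodule.mkQ_apply, Submodule.liftQ_apply, Algebra.smul_def] at hk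
  have hk' : φ j a ^ k * φ j m = 0 := by rw [← map_pow]; exact hk
  rw [smul_eq_mul, map_mul]
  refine IsNilpotent.eq_zero ⟨k + 1, ?_⟩
  rw [mul_pow, pow_succ (φ j a), pow_succ' (φ j m)]
  calc φ j a ^ k * φ j a * (φ j m * φ j m ^ k) = (φ j a ^ k * φ j m) * (φ j a * φ j m ^ k) := by ring
    _ = 0 := by rw [hk', zero_mul]

/-- The kernel of the base change of the family is the extended ideal. -/
theorem mem_map_of_sepAt {R S : Type u} [CommRing R] [CommRing S] [Algebra R S] {J : Type u}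
    {N N' : J → CommRingCat.{u}} (φ : ∀ j, R →+* N j) (φ' : ∀ j, S →+* N' j) (ψ : ∀ j, N j →+* N' j)
    (hw : ∀ j r, φ' j (algebraMap R S r) = ψ j (φ j r))
    (hpo : ∀ j, CategoryTheory.IsPushout (CommRingCat.ofHom (algebraMap R S)) (CommRingCat.ofHom (φ j))
      (CommRingCat.ofHom (φ' j)) (CommRingCat.ofHom (ψ j)))
    (I : Ideal R) (hI : ∀ r ∈ I, ∀ j, φ j r = 0)
    (hsep : letI := fun j => (φ j).toAlgebra
      SepAt S fun j => Submodule.liftQ I (Algebra.linearMap R (N j)) fun r hr => hI r hr j)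
    (s : S) (hs : ∀ j, φ' j s = 0) : s ∈ I.map (algebraMap R S) := by
  letI := fun j => (φ j).toAlgebra
  letI := fun j => (φ' j).toAlgebra
  letI := fun j => (ψ j).toAlgebra
  letI := fun j => ((φ' j).comp (algebraMap R S)).toAlgebra
  haveI : ∀ j, IsScalarTower R S (N' j) := fun j => IsScalarTower.of_algebraMap_eq fun _ => rfl
  haveI : ∀ j, IsScalarTower R (N j) (N' j) := fun j => IsScalarTower.of_algebraMap_eq fun r => hw j r
  haveI : ∀ j, Algebra.IsPushout R S (N j) (N' j) := fun j => CommRingCat.isPushout_iff_isPushout.mp (hpo j)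
  have h0 : s ⊗ₜ[R] Ideal.Quotient.mk I 1 = 0 := by
    refine hsep.eq_zero fun j => (Algebra.IsPushout.equiv R S (N j) (N' j)).injective ?_
    rw [map_zero, LinearMap.baseChange_tmul]
    refine Eq.trans ?_ (hs j)
    change Algebra.IsPushout.equiv R S (N j) (N' j) (s ⊗ₜ (φ j) 1) = φ' j s
    simp [Algebra.IsPushout.equiv_tmul]
    rfl
  have h1 := congrArg (TensorProduct.tensorQuotEquivQuotSMul S I) h0
  rwa [TensorProduct.tensorQuotEquivQuotSMul_tmul_mk, map_zero, one_smul,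
    Submodule.Quotient.mk_eq_zero, Ideal.smul_top_eq_map, Submodule.restrictScalars_mem] at h1

variable {X' S' : Scheme.{u}} {g : X' ⟶ X} {Z' : ι → Scheme.{u}} {f' : ∀ i, Z' i ⟶ X'} {g' : ∀ i, Z' i ⟶ Z i}

set_option maxHeartbeats 1000000 in
theorem vanishingIdeal_closure_baseChange {k : Type u} [Field k] (p : X ⟶ Spec (CommRingCat.of k)) {q : X' ⟶ S'}
    {h : S' ⟶ Spec (CommRingCat.of k)} (H₀ : IsPullback g q p h)
    (H : ∀ i, IsPullback (g' i) (f' i) (f i) g) [∀ i, IsReduced (Z i)] [∀ i, IsReduced (Z' i)] :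
    Scheme.IdealSheafData.vanishingIdeal (TopologicalSpace.Closeds.closure (⋃ i, Set.range (f' i))) =
      (Scheme.IdealSheafData.vanishingIdeal (TopologicalSpace.Closeds.closure (⋃ i, Set.range (f i)))).comap g := by
  classical
  have hV := isAffineOpen_top (Spec (CommRingCat.of k))
  have hcov : ∀ x : X', ∃ (U : X.affineOpens) (W : S'.affineOpens) (Q : X'.affineOpens),
      Q.1 = g ⁻¹ᵁ U.1 ⊓ q ⁻¹ᵁ W.1 ∧ x ∈ Q.1 := by
    intro x
    obtain ⟨U, hU, hxU, -⟩ := exists_isAffineOpen_mem_and_subset (U := (⊤ : X.Opens)) (x := g x) trivial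
    obtain ⟨W, hW, hxW, -⟩ := exists_isAffineOpen_mem_and_subset (U := (⊤ : S'.Opens)) (x := q x) trivial
    obtain ⟨hQ, -⟩ := H06EGA11b.PullFlat.pushout_sections H₀ hU hV le_top hW le_top
    exact ⟨⟨U, hU⟩, ⟨W, hW⟩, ⟨_, hQ⟩, rfl, hxU, hxW⟩
  choose U W Q hQe hxQ using hcov
  refine Scheme.IdealSheafData.ext_of_iSup_eq_top Q
    (eq_top_iff.mpr fun x _ => TopologicalSpace.Opens.mem_iSup.mpr ⟨x, hxQ x⟩) fun x => ?_
  generalize hQ' : Q x = Q'
  obtain ⟨Q₀, hQ₀⟩ := Q'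
  obtain rfl : Q₀ = g ⁻¹ᵁ (U x).1 ⊓ q ⁻¹ᵁ (W x).1 := by rw [← hQe x, hQ']
  let U₀ := U x
  let c := Chart.all f U₀.1
  let c' := c.baseChange H U₀.2 hQ₀ inf_le_left
  rw [H29Blow.ideal_comap _ g U₀ ⟨_, hQ₀⟩ inf_le_left]
  refine le_antisymm (fun r hr => ?_) (Ideal.map_le_iff_le_comap.mpr fun r hr => ?_)
  · obtain ⟨-, hpo⟩ := H06EGA11b.PullFlat.pushout_sections H₀ U₀.2 hV le_top (W x).2 le_top
    letI : Field Γ(Spec (CommRingCat.of k), ⊤) :=
      ((Scheme.ΓSpecIso (CommRingCat.of k)).commRingCatIsoToRingEquiv.toMulEquiv.isField (Field.toIsField k)).toField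
    letI := (h.appLE ⊤ (W x).1 le_top).hom.toAlgebra
    letI := (p.appLE ⊤ U₀.1 le_top).hom.toAlgebra
    letI : Algebra Γ(S', (W x).1) Γ(X', g ⁻¹ᵁ U₀.1 ⊓ q ⁻¹ᵁ (W x).1) := (q.appLE (W x).1 _ inf_le_right).hom.toAlgebra
    letI : Algebra Γ(X, U₀.1) Γ(X', g ⁻¹ᵁ U₀.1 ⊓ q ⁻¹ᵁ (W x).1) := (g.appLE U₀.1 _ inf_le_left).hom.toAlgebra
    letI : Algebra Γ(Spec (CommRingCat.of k), ⊤) Γ(X', g ⁻¹ᵁ U₀.1 ⊓ q ⁻¹ᵁ (W x).1) :=
      ((q.appLE (W x).1 _ inf_le_right).hom.comp (h.appLE ⊤ (W x).1 le_top).hom).toAlgebra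
    haveI : IsScalarTower Γ(Spec (CommRingCat.of k), ⊤) Γ(S', (W x).1) Γ(X', g ⁻¹ᵁ U₀.1 ⊓ q ⁻¹ᵁ (W x).1) :=
      IsScalarTower.of_algebraMap_eq fun _ => rfl
    haveI : IsScalarTower Γ(Spec (CommRingCat.of k), ⊤) Γ(X, U₀.1) Γ(X', g ⁻¹ᵁ U₀.1 ⊓ q ⁻¹ᵁ (W x).1) :=
      IsScalarTower.of_algebraMap_eq fun x => congrArg (fun φ => φ.hom x) hpo.w.symm
    haveI : Algebra.IsPushout Γ(Spec (CommRingCat.of k), ⊤) Γ(X, U₀.1) Γ(S', (W x).1)
        Γ(X', g ⁻¹ᵁ U₀.1 ⊓ q ⁻¹ᵁ (W x).1) := CommRingCat.isPushout_iff_isPushout.mp hpo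
    let I := (Scheme.IdealSheafData.vanishingIdeal
      (TopologicalSpace.Closeds.closure (⋃ i, Set.range (f i)))).ideal U₀
    have hI : ∀ r, r ∈ I ↔ ∀ j, c.map j r = 0 := fun r => mem_vanishingIdeal_iff c r
    haveI : ∀ j, _root_.IsReduced Γ(Z (c.idx j), c.W j) := fun j => IsReduced.component_reduced _
    letI := fun j => (c.map j).toAlgebra
    have hpoj := fun j => (H06EGA11b.PullFlat.pushout_sections (H (c.idx j)) (c.affine j) U₀.2 (c.le j) hQ₀ inf_le_left).2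
    refine mem_map_of_sepAt c.map c'.map
      (fun j => ((g' (c.idx j)).appLE (c.W j) _ inf_le_left).hom)
      (fun j r => (congrArg (fun φ => φ.hom r) (hpoj j).w).symm) (fun j => (hpoj j).flip) I
      (fun r hr => (hI r).mp hr) ?_ r ((mem_vanishingIdeal_iff (U := ⟨_, hQ₀⟩) c' r).mp hr)
    exact sep_baseChange_algEquiv (Algebra.IsPushout.equiv Γ(Spec (CommRingCat.of k), ⊤) Γ(X, U₀.1)
      Γ(S', (W x).1) Γ(X', g ⁻¹ᵁ U₀.1 ⊓ q ⁻¹ᵁ (W x).1))
      (sepBC_of_field _ _ _ _ _ _ _ (sep_liftQ c.map I hI))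
  · have hr' := (mem_vanishingIdeal_iff c r).mp hr
    refine Ideal.mem_comap.mpr ((mem_vanishingIdeal_iff (U := ⟨_, hQ₀⟩) c' _).mpr fun j => ?_)
    have hpoj := (H06EGA11b.PullFlat.pushout_sections (H (c.idx j)) (c.affine j) U₀.2 (c.le j) hQ₀ inf_le_left).2
    refine ((congrArg (fun φ => φ.hom r) hpoj.w).symm).trans ?_
    exact (congrArg ((g' (c.idx j)).appLE (c.W j) _ inf_le_left).hom (hr' j)).trans (map_zero _)

end Groth.Agent.H06Sep
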