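import Mathlib
import Groth.Agent.H7Flat.FibreRegular

/-!
Sections supported outside an open which is dense for the fibres of a flat finitely presented module.
-/

set_option autoImplicit false
set_option linter.style.haveILetI false
set_option backward.isDefEq.respectTransparency false

universe u

open TensorProduct

namespace Groth.Agent.H06Sep

/-- An ideal killing no non-zero element contains an element regular at a prime (prime avoidance). -/
theorem exists_regular_at {R Φ L : Type u} [CommRing R] [CommRing Φ] [Algebra R Φ] [IsNoetherianRing Φ]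
    [AddCommGroup L] [Module Φ L] [Module R L] [IsScalarTower R Φ L] [Module.Finite Φ L] (I : Ideal R)
    (hI : ∀ y : L, (∀ a ∈ I, a • y = 0) → y = 0) (q : Ideal R) [hq : q.IsPrime] :
    ∃ a ∈ I, ∀ y : L, (∃ c ∉ q, c • a • y = 0) → ∃ c ∉ q, c • y = 0 := by
  classical
  by_contra hno
  push Not at hno
  let T : Set (Ideal Φ) := {P | P ∈ associatedPrimes Φ L ∧ P.comap (algebraMap R Φ) ≤ q}
  have hT : T.Finite := (associatedPrimes.finite Φ L).subset fun P hP => hP.1
  have hsub : (I : Set R) ⊆ ⋃ P ∈ T, ((P.comap (algebraMap R Φ) : Ideal R) : Set R) := by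
    intro a ha
    obtain ⟨y, ⟨c, hc, hcay⟩, hy⟩ := hno a ha
    let K : Submodule Φ L := Submodule.span Φ {y}
    let J : Ideal Φ := Module.annihilator Φ K
    have hmem : ∀ r : R, r • y = 0 → algebraMap R Φ r ∈ J := fun r hr =>
      Module.mem_annihilator.mpr fun z => Subtype.ext (by
        obtain ⟨b, hb⟩ := Submodule.mem_span_singleton.mp z.2
        show algebraMap R Φ r • (z : L) = 0
        rw [← hb, smul_comm, algebraMap_smul, hr, smul_zero])
    obtain ⟨P, hP, hPq⟩ : ∃ P ∈ J.minimalPrimes, P.comap (algebraMap R Φ) ≤ q := by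
      by_contra hne
      push Not at hne
      have hfin : J.minimalPrimes.Finite := Ideal.finite_minimalPrimes_of_isNoetherianRing Φ J
      choose d hd hdq using fun P : hfin.toFinset => SetLike.not_le_iff_exists.mp (hne P.1 (hfin.mem_toFinset.mp P.2))
      have hprod : algebraMap R Φ (∏ P, d P) ∈ J.radical := by
        rw [← Ideal.sInf_minimalPrimes, Submodule.mem_sInf]
        intro P hP
        exact Ideal.mem_comap.mp (Ideal.prod_mem _ (Finset.mem_univ ⟨P, hfin.mem_toFinset.mpr hP⟩) (hd ⟨P, hfin.mem_toFinset.mpr hP⟩))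
      obtain ⟨n, hn⟩ := hprod
      rw [← map_pow] at hn
      refine hy ((∏ P, d P) ^ n) (fun h => ?_) ?_
      · obtain ⟨P, -, hP⟩ := (Ideal.IsPrime.prod_mem_iff (p := q)).mp (hq.mem_of_pow_mem n h)
        exact hdq P hP
      · have := congrArg Subtype.val (Module.mem_annihilator.mp hn ⟨y, Submodule.mem_span_singleton_self y⟩)
        exact (algebraMap_smul Φ _ y).symm.trans this
    haveI : Module.Finite Φ K := Module.Finite.iff_fg.mpr (Submodule.fg_span_singleton y)
    have hPass : P ∈ associatedPrimes Φ L := associatedPrimes.subset_of_injective (f := K.subtype)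
      K.injective_subtype (Module.associatedPrimes.minimalPrimes_annihilator_subset_associatedPrimes Φ K hP)
    have hac : algebraMap R Φ (c * a) ∈ P := hP.1.2 (hmem _ (by rw [mul_smul]; exact hcay))
    rw [map_mul] at hac
    refine Set.mem_biUnion (x := P) ⟨hPass, hPq⟩ ?_
    exact (hP.1.1.mem_or_mem hac).resolve_left fun h => hc (hPq h)
  obtain ⟨P, hP, hIP⟩ := (Ideal.subset_union_prime_finite hT (f := fun P => P.comap (algebraMap R Φ))
    (⊥ : Ideal Φ) (⊥ : Ideal Φ) fun Q hQ _ _ => Ideal.IsPrime.comap _ (hK := hQ.1.isPrime)).mp hsub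
  obtain ⟨hPp, y, hy⟩ := isAssociatedPrime_iff.mp hP.1
  have hy0 : y = 0 := hI y fun a ha => by
    have := hy.le (hIP ha)
    rw [Submodule.mem_colon_singleton, Submodule.mem_bot, algebraMap_smul] at this
    exact this
  exact hPp.ne_top (by rw [hy, hy0, Ideal.eq_top_iff_one, Submodule.mem_colon_singleton, Submodule.mem_bot, smul_zero])

attribute [local instance] Algebra.TensorProduct.rightAlgebra

variable {A R M : Type u} [CommRing A] [CommRing R] [Algebra A R] [Algebra.FinitePresentation A R]
  [AddCommGroup M] [Module R M] [Module A M] [IsScalarTower A R M] [Module.FinitePresentation R M]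
  [Module.Flat A M]

/-- At every prime some element of the ideal is universally regular. -/
theorem exists_universally_regular (p : Ideal A) [p.IsPrime] (q : Ideal R) [q.IsPrime] [q.LiesOver p]
    (I : Ideal R) (hI : ∀ y : (p.Fiber R) ⊗[R] M, (∀ a ∈ I, a • y = 0) → y = 0) :
    ∃ a ∈ I, ∀ (Q : Type u) [AddCommGroup Q] [Module A Q] (z : M ⊗[A] Q) (k : ℕ), a ^ k • z = 0 →
      ∃ c ∉ q, c • z = 0 := by
  haveI : IsNoetherianRing (p.Fiber R) := Algebra.FiniteType.isNoetherianRing p.ResidueField (p.Fiber R)
  obtain ⟨a, haI, ha⟩ := exists_regular_at (Φ := p.Fiber R) (L := (p.Fiber R) ⊗[R] M) I hI q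
  refine ⟨a, haI, fun Q _ _ z k => ?_⟩
  induction k generalizing z with
  | zero => intro hz; exact ⟨1, fun h => (Ideal.IsPrime.ne_top ‹_›) ((Ideal.eq_top_iff_one q).mpr h), by simpa using hz⟩
  | succ k ih =>
    intro hz
    rw [pow_succ', mul_smul] at hz
    obtain ⟨c, hc, hcz⟩ := H7Flat.FibreRegular.smul_regular p q a ha Q (a ^ k • z) hz
    rw [smul_comm] at hcz
    obtain ⟨c', hc', hcz'⟩ := ih (c • z) hcz
    exact ⟨c' * c, q.primeCompl.mul_mem hc' hc, by rw [mul_smul, hcz']⟩

end Groth.Agent.H06Sep
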