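import Mathlib
import Groth.Agent.H06Sep.Support
import Groth.Agent.H06Sep.Scheme
import Groth.Agent.H06Mod.StalkFinite
import Groth.Agent.H8Props.FinLocFree.Sheaf

/-!
Universal injectivity of the restriction to an open, tested on fibres (EGA IV 11.10.10).
-/

set_option autoImplicit false
set_option linter.style.haveILetI false
set_option backward.isDefEq.respectTransparency false

universe u

open CategoryTheory CategoryTheory.Limits AlgebraicGeometry TensorProduct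

namespace Groth.Agent.H06Sep

attribute [local instance] Algebra.TensorProduct.rightAlgebra

variable {X S X' S' : Scheme.{u}}

set_option maxHeartbeats 1000000 in
theorem restrict_injective_of_fibres (p : X ⟶ S) [LocallyOfFinitePresentation p] (F : X.Modules)
    (hF : Coh.IsQCoh F) (hFP : CohB1.IsFP F) (hflat : FlatMod.IsFlatOver p F) (U : X.Opens)
    (hfib : ∀ (s : S) (V : (p.fiber s).Opens),
      Function.Injective (((Scheme.Modules.pullback (p.fiberι s)).obj F).presheaf.map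
        (homOfLE (inf_le_left : V ⊓ (p.fiberι s) ⁻¹ᵁ U ≤ V)).op))
    {f' : X' ⟶ S'} {g : X' ⟶ X} {h : S' ⟶ S} (H : IsPullback g f' p h) (V : X'.Opens) :
    Function.Injective (((Scheme.Modules.pullback g).obj F).presheaf.map
      (homOfLE (inf_le_left : V ⊓ g ⁻¹ᵁ U ≤ V)).op) := by
  let F' := (Scheme.Modules.pullback g).obj F
  have hF' : Coh.IsQCoh F' := H29Fitt.isQCoh_pullback g F hF
  refine (injective_iff_map_eq_zero _).mpr fun t ht => ?_
  refine TopCat.Presheaf.section_ext ⟨F'.presheaf, F'.isSheaf⟩ V t 0 fun x hx => ?_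
  rw [map_zero]
  obtain ⟨V₀, hV₀, hxV₀, -⟩ := exists_isAffineOpen_mem_and_subset (U := (⊤ : S.Opens))
    (x := h (f' x)) trivial
  obtain ⟨W, hW, hxW, eW⟩ := exists_isAffineOpen_mem_and_subset (U := h ⁻¹ᵁ V₀) (x := f' x) hxV₀
  have hxV' : p (g x) ∈ V₀ := by
    have := congrArg (fun φ : X' ⟶ S => φ x) H.w
    simp only [Scheme.Hom.comp_apply] at this
    rwa [this]
  obtain ⟨U₀, hU₀, hxU₀, eU⟩ := exists_isAffineOpen_mem_and_subset (U := p ⁻¹ᵁ V₀) (x := g x) hxV'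
  obtain ⟨hQ, hpo⟩ := H06EGA11b.PullFlat.pushout_sections H hU₀ hV₀ eU hW eW
  set Q := g ⁻¹ᵁ U₀ ⊓ f' ⁻¹ᵁ W
  have hxQ : x ∈ Q := ⟨hxU₀, hxW⟩
  obtain ⟨b, hbV, hxb⟩ := hQ.exists_basicOpen_le (V := V) ⟨x, hx⟩ hxQ
  let R := Γ(X, U₀)
  let I : Ideal R :=
    { carrier := {a | X.basicOpen a ≤ U}
      zero_mem' := by
        show X.basicOpen (0 : Γ(X, U₀)) ≤ U
        rw [Scheme.basicOpen_zero]
        exact bot_le
      add_mem' := fun {a c} ha hc y hy => by
        have hyV : y ∈ U₀ := X.basicOpen_le _ hy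
        rw [Scheme.mem_basicOpen _ _ _ hyV, map_add] at hy
        rcases IsLocalRing.isUnit_or_isUnit_of_isUnit_add hy with h | h
        · exact ha ((Scheme.mem_basicOpen _ _ _ hyV).mpr h)
        · exact hc ((Scheme.mem_basicOpen _ _ _ hyV).mpr h)
      smul_mem' := fun c {a} ha => by
        show X.basicOpen (c * a) ≤ U
        rw [Scheme.basicOpen_mul]
        exact inf_le_right.trans ha }
  -- algebra structures
  letI : Algebra Γ(S, V₀) Γ(S', W) := (h.appLE V₀ W eW).hom.toAlgebra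
  letI : Algebra Γ(S, V₀) R := (p.appLE V₀ U₀ eU).hom.toAlgebra
  letI : Algebra Γ(S', W) Γ(X', Q) := (f'.appLE W Q inf_le_right).hom.toAlgebra
  letI : Algebra R Γ(X', Q) := (g.appLE U₀ Q inf_le_left).hom.toAlgebra
  letI : Algebra Γ(S, V₀) Γ(X', Q) :=
    ((f'.appLE W Q inf_le_right).hom.comp (h.appLE V₀ W eW).hom).toAlgebra
  haveI : IsScalarTower Γ(S, V₀) Γ(S', W) Γ(X', Q) := IsScalarTower.of_algebraMap_eq fun _ => rfl
  haveI : IsScalarTower Γ(S, V₀) R Γ(X', Q) := IsScalarTower.of_algebraMap_eq fun x =>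
    congrArg (fun φ => φ.hom x) hpo.w.symm
  haveI : Algebra.IsPushout Γ(S, V₀) R Γ(S', W) Γ(X', Q) := CommRingCat.isPushout_iff_isPushout.mp hpo
  letI := Module.compHom Γ(F, U₀) (p.appLE V₀ U₀ eU).hom
  haveI : IsScalarTower Γ(S, V₀) R Γ(F, U₀) := .of_algebraMap_smul fun _ _ => rfl
  haveI : Algebra.FinitePresentation Γ(S, V₀) R :=
    HasRingHomProperty.appLE @LocallyOfFinitePresentation p inferInstance ⟨V₀, hV₀⟩ ⟨U₀, hU₀⟩ eU
  haveI : Module.FinitePresentation R Γ(F, U₀) := H8Props.FinLocFree.finitePresentation_sections F hFP hU₀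
  haveI : Module.Flat Γ(S, V₀) Γ(F, U₀) :=
    (H8Props.FlatLocus.flat_sections_over_iff p F hF hV₀ hU₀ eU).mpr fun z => hflat z.1
  -- the prime
  let q : Ideal R := (hQ.primeIdealOf ⟨x, hxQ⟩).asIdeal.comap (algebraMap R Γ(X', Q))
  let p₀ : Ideal Γ(S, V₀) := q.comap (algebraMap Γ(S, V₀) R)
  haveI : q.LiesOver p₀ := ⟨rfl⟩
  have hI : ∀ y : (p₀.Fiber R) ⊗[R] Γ(F, U₀), (∀ a ∈ I, a • y = 0) → y = 0 := by
    obtain ⟨e, ⟨ε⟩⟩ := residueField_algEquiv hV₀ ⟨p₀, inferInstance⟩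
    set s := hV₀.fromSpec ⟨p₀, inferInstance⟩
    letI := ((S.fromSpecResidueField s).appLE V₀ ⊤ e).hom.toAlgebra
    obtain ⟨hQs, hpos⟩ := H06EGA11b.PullFlat.pushout_sections
      (IsPullback.of_hasPullback p (S.fromSpecResidueField s)) hU₀ hV₀ eU (isAffineOpen_top _) e
    let Qs : (p.fiber s).Opens := p.fiberι s ⁻¹ᵁ U₀ ⊓ p.fiberToSpecResidueField s ⁻¹ᵁ ⊤
    let T := Γ(Spec (S.residueField s), ⊤)
    letI : Algebra T Γ(p.fiber s, Qs) :=
      ((p.fiberToSpecResidueField s).appLE ⊤ Qs inf_le_right).hom.toAlgebra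
    letI : Algebra R Γ(p.fiber s, Qs) := ((p.fiberι s).appLE U₀ Qs inf_le_left).hom.toAlgebra
    letI : Algebra Γ(S, V₀) Γ(p.fiber s, Qs) :=
      (((p.fiberToSpecResidueField s).appLE ⊤ Qs inf_le_right).hom.comp
        ((S.fromSpecResidueField s).appLE V₀ ⊤ e).hom).toAlgebra
    haveI : IsScalarTower Γ(S, V₀) T Γ(p.fiber s, Qs) := IsScalarTower.of_algebraMap_eq fun _ => rfl
    haveI : IsScalarTower Γ(S, V₀) R Γ(p.fiber s, Qs) := IsScalarTower.of_algebraMap_eq fun x =>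
      congrArg (fun φ => φ.hom x) hpos.w.symm
    haveI : Algebra.IsPushout Γ(S, V₀) R T Γ(p.fiber s, Qs) := CommRingCat.isPushout_iff_isPushout.mp hpos
    let e₁ : p₀.Fiber R ≃ₗ[R] Γ(p.fiber s, Qs) :=
      (AlgEquiv.ofRingEquiv (f := (((Algebra.TensorProduct.comm Γ(S, V₀) p₀.ResidueField R).trans
        (Algebra.TensorProduct.congr (AlgEquiv.refl : R ≃ₐ[Γ(S, V₀)] R) ε.symm)).toRingEquiv.trans
          (Algebra.IsPushout.equiv Γ(S, V₀) R T Γ(p.fiber s, Qs)).toRingEquiv)) fun r => by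
        change (Algebra.IsPushout.equiv Γ(S, V₀) R T Γ(p.fiber s, Qs))
          ((Algebra.TensorProduct.congr (AlgEquiv.refl : R ≃ₐ[Γ(S, V₀)] R) ε.symm)
            (Algebra.TensorProduct.comm Γ(S, V₀) p₀.ResidueField R ((1 : p₀.ResidueField) ⊗ₜ r))) = _
        simp [Algebra.IsPushout.equiv_tmul]).toLinearEquiv
    let Fs := (Scheme.Modules.pullback (p.fiberι s)).obj F
    letI := Module.compHom Γ(Fs, Qs) ((p.fiberι s).appLE U₀ Qs inf_le_left).hom
    haveI : IsScalarTower R Γ(p.fiber s, Qs) Γ(Fs, Qs) := .of_algebraMap_smul fun _ _ => rfl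
    let E : (p₀.Fiber R) ⊗[R] Γ(F, U₀) ≃ₗ[R] Γ(Fs, Qs) :=
      (LinearEquiv.rTensor Γ(F, U₀) e₁).trans
        ((H8Props.PullSections.isBaseChange_pullLin (p.fiberι s) F (W := U₀) (U := Qs) inf_le_left hF hU₀
          hQs).equiv.restrictScalars R)
    intro y hy
    apply E.injective
    rw [map_zero]
    refine hfib s Qs ((TopCat.Presheaf.section_ext ⟨Fs.presheaf, Fs.isSheaf⟩ _ _ 0 fun w hw => ?_).trans
      (map_zero (Fs.presheaf.map (homOfLE (inf_le_left : Qs ⊓ (p.fiberι s) ⁻¹ᵁ U ≤ Qs)).op).hom).symm)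
    rw [map_zero, TopCat.Presheaf.germ_res_apply]
    obtain ⟨a, haU, hwa⟩ := hU₀.exists_basicOpen_le (V := U) ⟨p.fiberι s w, hw.2⟩ hw.1.1
    let a' := algebraMap R Γ(p.fiber s, Qs) a
    have h1 : a' ^ 1 • E y = 0 := by
      rw [pow_one, algebraMap_smul, ← map_smul, hy a haU, map_zero]
    have hwa' : w ∈ (p.fiber s).basicOpen a' := by
      show w ∈ (p.fiber s).basicOpen ((p.fiberι s).appLE U₀ Qs inf_le_left a)
      rw [Scheme.basicOpen_appLE]
      exact ⟨hw.1, hwa⟩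
    rw [← Fs.presheaf.germ_res_apply (homOfLE ((p.fiber s).basicOpen_le a')) w hwa' (E y),
      res_pow_smul Fs a' 1 (E y) h1, map_zero]
  obtain ⟨a, haI, ha⟩ := exists_universally_regular p₀ q I hI
  let a' := algebraMap R Γ(X', Q) a
  obtain ⟨n, s', hs'⟩ := H29Blow.exists_pow_smul_eq_res F' hF' hQ b (F'.presheaf.map (homOfLE hbV).op t)
  have hDle : X'.basicOpen (a' * b) ≤ V ⊓ g ⁻¹ᵁ U := by
    rw [Scheme.basicOpen_mul]
    refine le_inf (inf_le_right.trans hbV) (inf_le_left.trans ?_)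
    show X'.basicOpen (g.appLE U₀ Q inf_le_left a) ≤ _
    rw [Scheme.basicOpen_appLE]
    exact inf_le_right.trans (g.preimage_mono haI)
  have hDb : X'.basicOpen (a' * b) ≤ X'.basicOpen b := by rw [Scheme.basicOpen_mul]; exact inf_le_right
  have h0 : F'.presheaf.map (homOfLE (X'.basicOpen_le (a' * b))).op s' = 0 := by
    have e1 : F'.presheaf.map (homOfLE (X'.basicOpen_le (a' * b))).op s' =
        F'.presheaf.map (homOfLE hDb).op (F'.presheaf.map (homOfLE (X'.basicOpen_le b)).op s') := by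
      rw [← ConcreteCategory.comp_apply, ← Functor.map_comp]
      rfl
    rw [e1, hs', Scheme.Modules.map_smul]
    have e2 : F'.presheaf.map (homOfLE hDb).op (F'.presheaf.map (homOfLE hbV).op t) =
        F'.presheaf.map (homOfLE hDle).op (F'.presheaf.map (homOfLE (inf_le_left : V ⊓ g ⁻¹ᵁ U ≤ V)).op t) := by
      rw [← ConcreteCategory.comp_apply, ← Functor.map_comp, ← ConcreteCategory.comp_apply, ← Functor.map_comp]
      rfl
    rw [e2, ht, map_zero, smul_zero]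
  obtain ⟨k, hk⟩ := H29Blow.exists_pow_smul_eq_zero F' hF' hQ _ _ h0
  letI := Module.compHom Γ(F', Q) (g.appLE U₀ Q inf_le_left).hom
  haveI : IsScalarTower R Γ(X', Q) Γ(F', Q) := .of_algebraMap_smul fun _ _ => rfl
  let E' : Γ(F, U₀) ⊗[Γ(S, V₀)] Γ(S', W) ≃ₗ[R] Γ(F', Q) :=
    ((AlgebraTensorModule.cancelBaseChange Γ(S, V₀) R R Γ(F, U₀) Γ(S', W)).symm.trans
      ((TensorProduct.comm R Γ(F, U₀) (R ⊗[Γ(S, V₀)] Γ(S', W))).trans
        (LinearEquiv.rTensor Γ(F, U₀) (Algebra.IsPushout.equiv Γ(S, V₀) R Γ(S', W) Γ(X', Q)).toLinearEquiv))).trans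
      ((H8Props.PullSections.isBaseChange_pullLin g F (W := U₀) (U := Q) inf_le_left hF hU₀ hQ).equiv.restrictScalars R)
  obtain ⟨c, hc, hcz⟩ := ha Γ(S', W) (E'.symm (b ^ k • s')) k (by
    rw [← map_smul, ← algebraMap_smul Γ(X', Q) (a ^ k), smul_smul, map_pow, ← mul_pow, hk, map_zero])
  rw [← map_smul, LinearEquiv.map_eq_zero_iff, ← algebraMap_smul Γ(X', Q) c, smul_smul] at hcz
  have hg := congrArg (F'.presheaf.germ Q x hxQ) hcz
  rw [H06Mod.germ_smul, map_zero] at hg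
  have hub : IsUnit (X'.presheaf.germ Q x hxQ b) := (Scheme.mem_basicOpen _ _ _ hxQ).mp hxb
  have huc : IsUnit (X'.presheaf.germ Q x hxQ (algebraMap R Γ(X', Q) c)) := by
    letI := TopCat.Presheaf.algebra_section_stalk X'.presheaf (⟨x, hxQ⟩ : Q)
    haveI := hQ.isLocalization_stalk ⟨x, hxQ⟩
    exact IsLocalization.map_units (X'.presheaf.stalk x)
      (⟨algebraMap R Γ(X', Q) c, hc⟩ : (hQ.primeIdealOf ⟨x, hxQ⟩).asIdeal.primeCompl)
  rw [map_mul, map_pow] at hg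
  have hg0 := ((huc.mul (hub.pow k)).smul_eq_zero).mp hg
  rw [← F'.presheaf.germ_res_apply (homOfLE (X'.basicOpen_le b)) x hxb s', hs', H06Mod.germ_smul,
    TopCat.Presheaf.germ_res_apply, TopCat.Presheaf.germ_res_apply, map_pow] at hg0
  exact (hub.pow n).smul_eq_zero.mp hg0

end Groth.Agent.H06Sep
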